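import Groth.Agent.Stk19.Elem
import Groth.Agent.Stk19.Fp2
import Groth.Agent.Stk19.AlgSt.LocQ
import Groth.Agent.Stk19.AlgSt.Local
import Groth.Agent.AlgSpLib.YonCoprod
import Groth.Agent.AlgGrpLib.FppfGeomQuot
import Groth.Prelude.Def_StGerb

/-!
# Objects of a stack glue along disjoint unions
-/

set_option autoImplicit false
set_option backward.isDefEq.respectTransparency false
set_option backward.isDefEq.respectTransparency.types false

universe u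

open CategoryTheory CategoryTheory.Limits AlgebraicGeometry Opposite FibCat Groth.Agent.Desc19

namespace Groth.Agent.Stk19b.Gerbe

open Groth.Agent.Stk19
open Groth.Agent.AlgSpLib (sigmaOver sigmaOverι)

variable {S : Scheme.{u}} {𝒳 : AlgSt.Cat S}

/-- Over an empty scheme there is exactly one vertical arrow between two objects. -/
theorem existsUnique_vert_of_isEmpty (h : Stk.IsStack (AlgSp.J S) 𝒳) {x y : 𝒳.obj}
    (he : IsEmpty (𝒳.p.obj x).left) (e : 𝒳.p.obj x = 𝒳.p.obj y) :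
    ∃! χ : x ⟶ y, 𝒳.p.map χ = eqToHom e := by
  have := he
  obtain ⟨χ, ⟨hχ, -⟩, hu⟩ := (isPrestackFor_iff_glue h.1 (⊥ : Sieve (𝒳.p.obj x))).1
    ((isStack_isPrestack h).2 ⊥ (AlgSpLib.bot_mem_J _)) x y rfl e.symm
    (fun z ν hν => False.elim hν) (fun z ν hν => False.elim hν) (fun z' z g ν hν hν' => False.elim hν')
  exact ⟨χ, hχ, fun χ' h' => hu χ' ⟨h', fun z ν hν => False.elim hν⟩⟩

/-- Two arrows with empty base and the same image agree. -/
theorem ext_of_isEmpty (h : Stk.IsStack (AlgSp.J S) 𝒳) {x y : 𝒳.obj} (he : IsEmpty (𝒳.p.obj x).left)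
    {χ χ' : x ⟶ y} (hm : 𝒳.p.map χ = 𝒳.p.map χ') : χ = χ' := by
  obtain ⟨w, a, ew, ha⟩ := fibGrpd_lift h.1 y (𝒳.p.map χ)
  obtain ⟨t, ⟨h1, h2⟩, -⟩ := fibGrpd_fac h.1 a χ (eqToHom ew.symm) (by rw [ha]; simp)
  obtain ⟨t', ⟨h1', h2'⟩, -⟩ := fibGrpd_fac h.1 a χ' (eqToHom ew.symm) (by rw [ha, ← hm]; simp)
  rw [← h2, ← h2', (existsUnique_vert_of_isEmpty h he ew.symm).unique h1 h1']

theorem exists_vert_of_eq {ι : Type u} {W : ι → Over S} {o : ι → 𝒳.obj} (ho : ∀ i, 𝒳.p.obj (o i) = W i)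
    {i j : ι} (hij : i = j) : ∃ χ : o i ⟶ o j, 𝒳.p.map χ =
      eqToHom ((ho i).trans ((congrArg W hij).trans (ho j).symm)) := by
  subst hij
  exact ⟨𝟙 _, by simp⟩

theorem sigmaι_comp_cancel {ι : Type u} {W : ι → Over S} {Z : Over S} {i j : ι} (hij : i = j) (l : Z ⟶ W i)
    (m : Z ⟶ W j) (h : l ≫ sigmaOverι W i = m ≫ sigmaOverι W j) : l ≫ eqToHom (congrArg W hij) = m := by
  subst hij
  apply Over.OverMorphism.ext
  rw [← cancel_mono (Sigma.ι (fun k => (W k).left) i)]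
  exact (Category.assoc _ _ _).trans ((congrArg (l.left ≫ ·) (Category.id_comp _)).trans (congrArg CommaMorphism.left h))

theorem conj_eq {C : Type*} [Category C] {A A' B B' K K' L L' : C} (hA : A' = A) (hB : B' = B) (hK : K = K')
    (hL : L = L') (hk : K = L) (e : K' = L') {φ : A ⟶ B} {la : A ⟶ K} {lb : B ⟶ L}
    (hc : la ≫ eqToHom hk = φ ≫ lb) :
    (eqToHom hA ≫ φ ≫ eqToHom hB.symm) ≫ eqToHom hB ≫ lb ≫ eqToHom hL =
      (eqToHom hA ≫ la ≫ eqToHom hK) ≫ eqToHom e := by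
  subst hA hB hK hL hk
  simp only [eqToHom_refl, Category.comp_id] at hc ⊢
  simpa using hc.symm

theorem eq_or_isEmpty {ι : Type u} {W : ι → Over S} {Z : Over S} {i j : ι} (l : Z ⟶ W i)
    (m : Z ⟶ W j) (h : l ≫ sigmaOverι W i = m ≫ sigmaOverι W j) : i = j ∨ IsEmpty Z.left := by
  by_cases hij : i = j
  · exact Or.inl hij
  · exact Or.inr (isEmpty_of_commSq_sigmaι_of_ne (g := fun k => (W k).left) (a := l.left) (b := m.left)
      ⟨congrArg CommaMorphism.left h⟩ hij)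

theorem ofArrows_sigmaι_mem {ι : Type u} (W : ι → Over S) :
    Sieve.ofArrows W (sigmaOverι W) ∈ AlgSp.J S (sigmaOver W) := by
  have hopen : ∀ i, IsOpenImmersion (sigmaOverι W i).left := fun i =>
    inferInstanceAs (IsOpenImmersion (Sigma.ι (fun k => (W k).left) i))
  have (i : ι) : Flat (sigmaOverι W i).left := have := hopen i; inferInstance
  have (i : ι) : LocallyOfFinitePresentation (sigmaOverι W i).left := have := hopen i; inferInstance
  exact AlgSpLib.ofArrows_mem_J _ fun z => by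
    obtain ⟨i, x, hx⟩ := (sigmaOpenCover fun i => (W i).left).exists_eq z
    exact ⟨i, x, hx⟩

/-- A family of objects over schemes comes from one object over their disjoint union. -/
theorem exists_glue_sigma {ι : Type u} (W : ι → Over S) (h : Stk.IsStack (AlgSp.J S) 𝒳)
    (F : ∀ i, overCat (W i) ⥤ᵇ 𝒳) :
    ∃ G : overCat (sigmaOver W) ⥤ᵇ 𝒳,
      ∀ i, Nonempty (BasedFunctor.comp (AlgSt.overMap (sigmaOverι W i)) G ≅ F i) := by
  let o : ι → 𝒳.obj := fun i => (F i).obj (Over.mk (𝟙 (W i)))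
  have ho : ∀ i, 𝒳.p.obj (o i) = W i := fun i => (F i).w_obj _
  let R := Sieve.ofArrows W (sigmaOverι W)
  have hfac : ∀ a : (Stk.sieveCat R).obj, ∃ (i : ι) (l : a.obj.left ⟶ W i), l ≫ sigmaOverι W i = a.obj.hom := by
    intro a
    obtain ⟨i, g, hg⟩ := (Sieve.mem_ofArrows_iff W (sigmaOverι W) a.obj.hom).1 a.property
    exact ⟨i, g, hg.symm⟩
  choose k l hl using hfac
  choose d ν ed hν using fun a => fibGrpd_lift h.1 (o (k a)) (l a ≫ eqToHom (ho (k a)).symm)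
  have key : ∀ {a b : (Stk.sieveCat R).obj} (φ : a ⟶ b), ∃ g : d a ⟶ d b,
      𝒳.p.map g = eqToHom (ed a) ≫ φ.hom.left ≫ eqToHom (ed b).symm ∧
      ∀ (hk : k a = k b), g ≫ ν b = ν a ≫ eqToHom (congrArg o hk) := by
    intro a b φ
    have hw : l a ≫ sigmaOverι W (k a) = (φ.hom.left ≫ l b) ≫ sigmaOverι W (k b) := by
      rw [hl, Category.assoc, hl]
      exact (Over.w φ.hom).symm
    rcases eq_or_isEmpty _ _ hw with hk | he
    · have hc := sigmaι_comp_cancel hk _ _ hw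
      obtain ⟨g, ⟨hg1, hg2⟩, -⟩ := fibGrpd_fac h.1 (ν b) (ν a ≫ eqToHom (congrArg o hk))
        (eqToHom (ed a) ≫ φ.hom.left ≫ eqToHom (ed b).symm)
        (by rw [𝒳.p.map_comp, eqToHom_map, hν, hν]; exact conj_eq _ _ _ _ _ _ hc)
      exact ⟨g, hg1, fun _ => hg2⟩
    · have he' : IsEmpty (𝒳.p.obj (d a)).left := by rw [ed]; exact he
      obtain ⟨w, c, ew, hc⟩ := fibGrpd_lift h.1 (d b) (φ.hom.left ≫ eqToHom (ed b).symm)
      obtain ⟨χ, hχ, -⟩ := existsUnique_vert_of_isEmpty h he' ((ed a).trans ew.symm)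
      refine ⟨χ ≫ c, by rw [𝒳.p.map_comp, hχ, hc]; simp, fun hk => ext_of_isEmpty h he' ?_⟩
      have hc' := sigmaι_comp_cancel hk _ _ hw
      rw [𝒳.p.map_comp, 𝒳.p.map_comp, 𝒳.p.map_comp, hχ, hc, hν, hν, eqToHom_map, eqToHom_trans_assoc]
      exact conj_eq _ _ _ _ _ _ hc'
  choose m hm hmν using @key
  have uniq : ∀ {a b : (Stk.sieveCat R).obj} (φ : a ⟶ b) (g : d a ⟶ d b),
      𝒳.p.map g = eqToHom (ed a) ≫ φ.hom.left ≫ eqToHom (ed b).symm →
      (∀ (hk : k a = k b), g ≫ ν b = ν a ≫ eqToHom (congrArg o hk)) → g = m φ := by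
    intro a b φ g h1 h2
    have hw : l a ≫ sigmaOverι W (k a) = (φ.hom.left ≫ l b) ≫ sigmaOverι W (k b) := by
      rw [hl, Category.assoc, hl]
      exact (Over.w φ.hom).symm
    rcases eq_or_isEmpty _ _ hw with hk | he
    · exact fibGrpd_ext h.1 (ν b) (h1.trans (hm φ).symm) ((h2 hk).trans (hmν φ hk).symm)
    · exact ext_of_isEmpty h (by rw [ed]; exact he) (h1.trans (hm φ).symm)
  have uniqm : ∀ {a b c : (Stk.sieveCat R).obj} (φ : a ⟶ b) (ψ : b ⟶ c),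
      eqToHom (ed a) ≫ (φ ≫ ψ).hom.left ≫ eqToHom (ed c).symm = 𝒳.p.map (m φ ≫ m ψ) := by
    intro a b c φ ψ
    rw [𝒳.p.map_comp, hm, hm]
    erw [Category.assoc, Category.assoc]
    simp
  let D₀ : (Stk.sieveCat R).obj ⥤ 𝒳.obj :=
    { obj := d
      map := fun φ => m φ
      map_id := fun a => (uniq (𝟙 a) (𝟙 _) (by rw [𝒳.p.map_id]; change 𝟙 _ = eqToHom _ ≫ 𝟙 a.obj.left ≫ eqToHom _; simp) (fun _ => by simp)).symm
      map_comp := fun {a b c} φ ψ => (uniq (φ ≫ ψ) (m φ ≫ m ψ) (uniqm φ ψ).symm (fun hk => by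
        have hw : l a ≫ sigmaOverι W (k a) = (φ.hom.left ≫ l b) ≫ sigmaOverι W (k b) := by
          rw [hl, Category.assoc, hl]
          exact (Over.w φ.hom).symm
        rcases eq_or_isEmpty _ _ hw with hab | he
        · rw [Category.assoc, hmν ψ (hab.symm.trans hk), reassoc_of% (hmν φ hab)]
          simp
        · refine ext_of_isEmpty h (by rw [ed]; exact he) ?_
          have hw' : l a ≫ sigmaOverι W (k a) = ((φ ≫ ψ).hom.left ≫ l c) ≫ sigmaOverι W (k c) := by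
            rw [hl, Category.assoc, hl]
            exact (Over.w (φ ≫ ψ).hom).symm
          rw [𝒳.p.map_comp, ← uniqm φ ψ, 𝒳.p.map_comp, hν, hν, eqToHom_map]
          exact conj_eq _ _ _ _ _ _ (sigmaι_comp_cancel hk _ _ hw'))).symm }
  let D : Stk.sieveCat R ⥤ᵇ 𝒳 :=
    { toFunctor := D₀
      w := CategoryTheory.Functor.ext ed (fun a b φ => hm φ) }
  obtain ⟨x, hx, μ, hμ, -⟩ := ((isStackFor_iff_glue h.1 R).1 (h.2 R (ofArrows_sigmaι_mem W))).2 D
  obtain ⟨G, i₀, hi₀⟩ := exists_classifying h.1 x hx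
  have hi₀m : 𝒳.p.map i₀.hom = eqToHom ((G.w_obj (Over.mk (𝟙 (sigmaOver W)))).trans hx.symm) :=
    map_eq_of_vert 𝒳.p (R := sigmaOver W) i₀.hom
  refine ⟨G, fun i => ?_⟩
  let a : (Stk.sieveCat R).obj := ⟨Over.mk (sigmaOverι W i), Sieve.ofArrows_mk W (sigmaOverι W) i⟩
  have hl' : l a ≫ sigmaOverι W (k a) = 𝟙 (W i) ≫ sigmaOverι W i := by rw [hl]; exact (Category.id_comp _).symm
  obtain ⟨χ, hχ⟩ : ∃ χ : d a ⟶ o i, 𝒳.p.map χ = eqToHom ((ed a).trans (ho i).symm) := by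
    rcases eq_or_isEmpty _ _ hl' with hk | he
    · have hc := sigmaι_comp_cancel hk _ _ hl'
      refine ⟨ν a ≫ eqToHom (congrArg o hk), ?_⟩
      have : l a = eqToHom (congrArg W hk).symm := by
        rw [← cancel_mono (eqToHom (congrArg W hk)), eqToHom_trans]
        exact hc
      rw [𝒳.p.map_comp, hν, eqToHom_map, this]
      simp
    · exact (existsUnique_vert_of_isEmpty h (by rw [ed]; exact he) _).exists
  let z := (BasedFunctor.comp (AlgSt.overMap (sigmaOverι W i)) G).obj (Over.mk (𝟙 (W i)))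
  have ez : 𝒳.p.obj z = W i := (BasedFunctor.comp (AlgSt.overMap (sigmaOverι W i)) G).w_obj _
  obtain ⟨κ, ⟨hκ, -⟩, -⟩ := fibGrpd_fac h.1 (μ a) (G.map (toId ((AlgSt.overMap (sigmaOverι W i)).obj (Over.mk (𝟙 (W i))))) ≫ i₀.hom)
    (eqToHom (ez.trans (ed a).symm) : 𝒳.p.obj z ⟶ 𝒳.p.obj (d a)) (by
      erw [hμ, 𝒳.p.map_comp, based_map G, hi₀m]
      simp [a, toId, AlgSt.overMap])
  have hθ : 𝒳.p.map (κ ≫ χ) = eqToHom (ez.trans (ho i).symm) := by
    rw [𝒳.p.map_comp, hκ, hχ]; simp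
  have : IsIso (κ ≫ χ) :=
    have : IsIso (𝒳.p.map (κ ≫ χ)) := by rw [hθ]; infer_instance
    fibGrpd_isIso h.1 _
  obtain ⟨e, -⟩ := yoneda_iso h.1 (BasedFunctor.comp (AlgSt.overMap (sigmaOverι W i)) G) (F i) (asIso (κ ≫ χ))
    (vert_change 𝒳.p _ (vert_of_map_eq 𝒳.p hθ) ez)
  exact ⟨e⟩

/-- Objects that lift locally lift after one flat surjection locally of finite presentation. -/
theorem exists_cover_of_locSurjObj {𝒴 : AlgSt.Cat S} {f : 𝒳 ⥤ᵇ 𝒴} (h𝒳 : Stk.IsStack (AlgSp.J S) 𝒳)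
    (h𝒴 : Stk.IsStack (AlgSp.J S) 𝒴) (hf : Gerb.LocSurjObj (AlgSp.J S) f) (T : Over S) (y : overCat T ⥤ᵇ 𝒴) :
    ∃ (W : Over S) (c : W ⟶ T), Flat c.left ∧ LocallyOfFinitePresentation c.left ∧ Surjective c.left ∧
      ∃ z : overCat W ⥤ᵇ 𝒳, Nonempty (BasedFunctor.comp z f ≅ BasedFunctor.comp (AlgSt.overMap c) y) := by
  let o := y.obj (Over.mk (𝟙 T))
  have eo : 𝒴.p.obj o = T := y.w_obj _
  obtain ⟨R, hR, hx⟩ := hf o
  obtain ⟨W, c, hcR, hc₁, hc₂, hc₃⟩ := exists_family_of_mem ((AlgSp.J S).pullback_stable (eqToHom eo.symm) hR)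
  have key : ∀ t, ∃ z : overCat (W t) ⥤ᵇ fp y f,
      Nonempty (BasedFunctor.comp z (fpFst y f) ≅ AlgSt.overMap (c t)) := by
    intro t
    obtain ⟨x, g, hg⟩ := hx _ (hcR t)
    have hgm := IsHomLift.fac' 𝒴.p (c t ≫ eqToHom eo.symm) g
    have eg : 𝒴.p.obj (f.obj x) = W t := IsHomLift.domain_eq 𝒴.p (c t ≫ eqToHom eo.symm) g
    obtain ⟨F, j, hj⟩ := exists_classifying h𝒳.1 x ((f.w_obj x).symm.trans eg)
    have hjm : 𝒳.p.map j.hom = eqToHom ((F.w_obj (Over.mk (𝟙 (W t)))).trans ((f.w_obj x).symm.trans eg).symm) :=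
      map_eq_of_vert 𝒳.p (R := W t) j.hom
    let p := (BasedFunctor.comp (AlgSt.overMap (c t)) y).obj (Over.mk (𝟙 (W t)))
    have ep : 𝒴.p.obj p = W t := (BasedFunctor.comp (AlgSt.overMap (c t)) y).w_obj _
    have eF : 𝒴.p.obj (f.obj (F.obj (Over.mk (𝟙 (W t))))) = W t := (f.w_obj _).trans (F.w_obj _)
    obtain ⟨κ, ⟨hκ, -⟩, -⟩ := fibGrpd_fac h𝒴.1 (f.map j.hom ≫ g)
      (y.map (toId ((AlgSt.overMap (c t)).obj (Over.mk (𝟙 (W t))))))
      (eqToHom (ep.trans eF.symm) : 𝒴.p.obj p ⟶ _) (by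
        erw [𝒴.p.map_comp, based_map f, hjm, hgm, based_map y]
        simp [toId, AlgSt.overMap])
    have : IsIso κ :=
      have : IsIso (𝒴.p.map κ) := by rw [hκ]; infer_instance
      fibGrpd_isIso h𝒴.1 _
    obtain ⟨e, -⟩ := yoneda_iso h𝒴.1 (BasedFunctor.comp (AlgSt.overMap (c t)) y) (BasedFunctor.comp F f) (asIso κ)
      (vert_change 𝒴.p _ (vert_of_map_eq 𝒴.p hκ) ep)
    exact ⟨fpLift (AlgSt.overMap (c t)) F e, ⟨Iso.refl _⟩⟩
  choose z hz using key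
  have hT : Stk.IsStack (AlgSp.J S) (overCat T) := isStack_of_repByAlgSp (repByAlgSp_overCat T)
  obtain ⟨G, hG⟩ := exists_glue_sigma W (isStack_fp y f _ hT h𝒳 (isStack_isPrestack h𝒴)) z
  obtain ⟨c', ⟨ic⟩⟩ := exists_overMap_iso (BasedFunctor.comp G (fpFst y f))
  have hc' : ∀ t, sigmaOverι W t ≫ c' = c t := by
    intro t
    obtain ⟨j⟩ := hG t
    obtain ⟨iz⟩ := hz t
    obtain ⟨i₁⟩ := overMap_comp (sigmaOverι W t) c'
    exact overMap_inj (i₁.symm ≪≫ (Stk.restr (AlgSt.overMap (sigmaOverι W t)) _).mapIso ic.symm ≪≫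
      (postB _ (fpFst y f)).mapIso j ≪≫ iz)
  have hcl : ∀ t, Sigma.ι (fun s => (W s).left) t ≫ c'.left = (c t).left := fun t => congrArg CommaMorphism.left (hc' t)
  have hc'' : c'.left = Sigma.desc fun t => (c t).left := Sigma.hom_ext _ _ fun t => by rw [hcl, Sigma.ι_desc]
  refine ⟨sigmaOver W, c', ?_, ?_, ⟨fun x => ?_⟩, BasedFunctor.comp G (fpSnd y f),
    ⟨((Stk.restr G _).mapIso (fpIso y f)).symm ≪≫ (postB _ y).mapIso ic⟩⟩
  · rw [hc'']
    exact IsZariskiLocalAtSource.sigmaDesc (P := @Flat) hc₁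
  · rw [hc'']
    exact IsZariskiLocalAtSource.sigmaDesc (P := @LocallyOfFinitePresentation) hc₂
  · obtain ⟨t, s, hs⟩ := hc₃ x
    exact ⟨Sigma.ι (fun s => (W s).left) t s, by rw [← hs, ← hcl t]; rfl⟩

end Groth.Agent.Stk19b.Gerbe
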