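import Groth.Agent.Stk19b.Quot.Univ
import Groth.Agent.Stk19b.Quot.Stack
import Groth.Agent.Stk19b.LocIm.Basic
import Groth.Agent.Stk19.GerbeOps
import Groth.Prelude.Def_StGerb2

/-!
# The classifying stack of the automorphism group of a point over the base
-/

set_option autoImplicit false
set_option backward.isDefEq.respectTransparency false
set_option backward.isDefEq.respectTransparency.types false

universe u

open CategoryTheory CategoryTheory.Limits AlgebraicGeometry MonoidalCategory CartesianMonoidalCategory MonObj GrpObj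
open Opposite FibCat Groth.Agent.Stk19 Groth.Agent.Desc19 Groth.Agent.Stk19b.QuotTriv

namespace Groth.Agent.Stk19b.Gerbe.PointBG

variable {S : Scheme.{u}} {𝒳 : AlgSt.Cat S} (x : overCat (Over.mk (𝟙 S)) ⥤ᵇ 𝒳) {G : Over S} [GrpObj G]
  (r : Gerb.AutRep x (Gerb.ptsGrp (Over.mk (𝟙 S)) G))

theorem left_eq {Z : Over S} (z : Z ⟶ Over.mk (𝟙 S)) : z.left = Z.hom :=
  (Category.comp_id z.left).symm.trans (Over.w z)

/-- The comparison of a scheme over the base with itself read through a point of the base. -/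
noncomputable def self' {Z : Over S} (z : Z ⟶ Over.mk (𝟙 S)) : Over.mk z.left ⟶ Z :=
  Over.homMk (𝟙 Z.left) ((Category.id_comp _).trans (left_eq z).symm)

theorem isIso_self' {Z : Over S} (z : Z ⟶ Over.mk (𝟙 S)) : IsIso (self' z) :=
  ⟨⟨Over.homMk (𝟙 Z.left) ((Category.id_comp _).trans (left_eq z)),
    Over.OverMorphism.ext (Category.id_comp _), Over.OverMorphism.ext (Category.id_comp _)⟩⟩

/-- A point of `G` as an element of the presheaf of groups. -/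
noncomputable def ev {Z : Over S} (z : Z ⟶ Over.mk (𝟙 S)) (g : Z ⟶ G) :
    (Gerb.ptsGrp (Over.mk (𝟙 S)) G).obj (op (Over.mk z)) :=
  (self' z ≫ g : Over.mk z.left ⟶ G)

theorem ev_mul {Z : Over S} (z : Z ⟶ Over.mk (𝟙 S)) (g g' : Z ⟶ G) : ev z (g * g') = ev z g * ev z g' :=
  MonObj.comp_mul (self' z) g g'

theorem ev_one {Z : Over S} (z : Z ⟶ Over.mk (𝟙 S)) : ev z (1 : Z ⟶ G) = 1 :=
  MonObj.comp_one (self' z)

theorem ev_bij {Z : Over S} (z : Z ⟶ Over.mk (𝟙 S)) : Function.Bijective (fun g : Z ⟶ G => ev z g) :=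
  have := isIso_self' z
  ⟨fun g g' h => (cancel_epi (self' z)).1 h, fun a => ⟨CategoryTheory.inv (self' z) ≫ a, IsIso.hom_inv_id_assoc _ _⟩⟩

/-- The arrow of `k`. -/
noncomputable def arr {Z W : Over S} (z : Z ⟶ Over.mk (𝟙 S)) (w : W ⟶ Over.mk (𝟙 S)) (k : Z ⟶ W) :
    (Over.mk z : Over (Over.mk (𝟙 S))) ⟶ Over.mk w :=
  Over.homMk k (Over.OverMorphism.ext (by
    show k.left ≫ w.left = z.left
    rw [left_eq, left_eq, Over.w k]))

theorem ev_natural {Z W : Over S} (z : Z ⟶ Over.mk (𝟙 S)) (w : W ⟶ Over.mk (𝟙 S)) (k : Z ⟶ W) (g : W ⟶ G) :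
    (Gerb.ptsGrp (Over.mk (𝟙 S)) G).map (arr z w k).op (ev w g) = ev z (k ≫ g) := by
  refine Over.OverMorphism.ext ?_
  show k.left ≫ 𝟙 W.left ≫ g.left = 𝟙 Z.left ≫ k.left ≫ g.left
  rw [Category.id_comp, Category.id_comp]

theorem vert_iso (T : (overCat (Over.mk (𝟙 S))).obj) (a : (Gerb.ptsGrp (Over.mk (𝟙 S)) G).obj (op T)) :
    𝒳.p.map (r.iso T a).hom.1 = 𝟙 _ := by
  have : 𝒳.p.IsHomLift (𝟙 (𝒳.p.obj (x.obj T))) (r.iso T a).hom.1 := (r.iso T a).hom.2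
  simpa using map_eq_of_vert 𝒳.p (R := 𝒳.p.obj (x.obj T)) (r.iso T a).hom.1

theorem base_map {Z W : Over S} (z : Z ⟶ Over.mk (𝟙 S)) (w : W ⟶ Over.mk (𝟙 S)) (k : Z ⟶ W) :
    𝒳.p.map (x.map (arr z w k)) = eqToHom (x.w_obj _) ≫ k ≫ eqToHom (x.w_obj _).symm :=
  based_map x _

theorem arr_comp {Z W V : Over S} (z : Z ⟶ Over.mk (𝟙 S)) (w : W ⟶ Over.mk (𝟙 S)) (v : V ⟶ Over.mk (𝟙 S))
    (k : Z ⟶ W) (l : W ⟶ V) : arr z w k ≫ arr w v l = arr z v (k ≫ l) :=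
  Over.OverMorphism.ext rfl

/-- The datum of the point with its automorphisms. -/
noncomputable def datum : Quot.ActDatum (AlgSt.trivAction G) 𝒳 where
  obj z := x.obj (Over.mk z)
  obj_p z := x.w_obj _
  map z w k g _ := (r.iso (Over.mk z) (ev z g)).hom.1 ≫ x.map (arr z w k)
  map_p z w k g _ := by
    rw [𝒳.p.map_comp, vert_iso, Category.id_comp, base_map]
  map_id z _ := by
    rw [ev_one, map_one]
    show 𝟙 _ ≫ x.map (arr z z (𝟙 _)) = 𝟙 _
    rw [Category.id_comp, show arr z z (𝟙 _) = 𝟙 (Over.mk z) from Over.OverMorphism.ext rfl]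
    exact x.toFunctor.map_id _
  map_comp z w v k g _ l g' _ _ := by
    rw [Category.assoc, ← Category.assoc (x.map (arr z w k)), ← r.natural (arr z w k) (ev w g'), ev_natural,
      Category.assoc, ← x.toFunctor.map_comp, arr_comp, ev_mul, map_mul, ← Category.assoc]
    rfl

theorem datum_bij {Z : Over S} (z : Z ⟶ 𝟙_ (Over S)) (cc : (datum x r).obj z ⟶ (datum x r).obj z)
    (hcc : 𝒳.p.map cc = 𝟙 _) (h𝒳 : IsFibGrpd 𝒳.p) :
    ∃! g : Z ⟶ G, ∃ h : smulPt (AlgSt.trivAction G) g z = 𝟙 Z ≫ z, (datum x r).map z z (𝟙 Z) g h = cc := by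
  let T : (overCat (Over.mk (𝟙 S))).obj := Over.mk z
  have hid : x.map (arr z z (𝟙 Z)) = 𝟙 (x.obj T) := by
    rw [show arr z z (𝟙 Z) = 𝟙 T from Over.OverMorphism.ext rfl]
    exact x.toFunctor.map_id _
  have hmap : ∀ g h, (datum x r).map z z (𝟙 Z) g h = (r.iso T (ev z g)).hom.1 := fun g h => by
    show _ ≫ x.map (arr z z (𝟙 Z)) = _
    rw [hid]
    exact Category.comp_id _
  have : 𝒳.p.IsHomLift (𝟙 (𝒳.p.obj (x.obj T))) cc := (vert_iff _ _).2 ⟨rfl, rfl, hcc⟩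
  let cf : Gerb.fib (x.obj T) ⟶ Gerb.fib (x.obj T) := ⟨cc, this⟩
  have : IsIso cf := (fibGrpd_iff.1 h𝒳).2 _ |>.all_isIso cf
  obtain ⟨g, hg⟩ := (ev_bij z).2 ((r.iso T).symm (asIso cf))
  have hgc : (r.iso T (ev z g)).hom.1 = cc := by
    rw [show ev z g = (r.iso T).symm (asIso cf) from hg, MulEquiv.apply_symm_apply]
    rfl
  refine ⟨g, ⟨toUnit_unique _ _, (hmap g _).trans hgc⟩, fun g' ⟨h, hg'⟩ => ?_⟩
  rw [hmap] at hg'
  exact (ev_bij z).1 ((r.iso T).injective (Aut.ext (Functor.Fiber.hom_ext (hg'.trans hgc.symm))))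

theorem onPoints_iso :
    Nonempty ((datum x r).onPoints ≅ BasedFunctor.comp (AlgSt.toOverCat (Over.mk (𝟙 S))) x) := by
  refine ⟨BasedNatIso.mkNatIso (NatIso.ofComponents (fun a => Iso.refl _) fun {a b} f => ?_) fun a => ?_⟩
  · show ((r.iso _ (ev a.sec.down 1)).hom.1 ≫ x.map (arr a.sec.down b.sec.down f.hom)) ≫ 𝟙 _ = 𝟙 _ ≫ x.map _
    rw [ev_one, map_one]
    show (𝟙 _ ≫ _) ≫ 𝟙 _ = _
    simp only [Category.comp_id, Category.id_comp]
    rfl
  · exact vert_change 𝒳.p _ (vert_of_map_eq 𝒳.p (h := rfl) (by simp)) (x.w_obj _)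

theorem trivAction_section {A : AlgSt.QuotObj Scheme.fppfPrecoverage G (AlgSt.trivAction G)}
    (c : A ⟶ QuotTriv.triv Scheme.fppfPrecoverage (AlgSt.trivAction G) (𝟙 (𝟙_ (Over S)))) :
    ∃ e : A.base ⟶ A.P, e ≫ A.π = 𝟙 A.base :=
  ⟨c.cart.lift (c.base ≫ unitSec (𝟙_ (Over S))) (𝟙 A.base) (by
      rw [Category.assoc, Category.id_comp]
      show c.base ≫ lift 1 (𝟙 _) ≫ snd G _ = c.base
      rw [lift_snd, Category.comp_id]), c.cart.lift_snd _ _ _⟩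

/-- A stack whose objects are all locally isomorphic to values of a point over the base is a gerbe. -/
theorem isGerbe_of_locIm (h𝒳 : Stk.IsStack (AlgSp.J S) 𝒳) (hloc : ∀ y, LocIm.locIm x y) :
    Gerb.IsGerbe (AlgSp.J S) 𝒳 := by
  refine ⟨h𝒳, fun U => ⟨⊤, (AlgSp.J S).top_mem _, fun V f _ => ?_⟩, fun y y' b hb => ?_⟩
  · let a : (overCat (Over.mk (𝟙 S))).obj := Over.mk (Over.homMk V.hom (Category.comp_id _) : V ⟶ Over.mk (𝟙 S))
    refine ⟨x.obj a, eqToHom (x.w_obj a) ≫ f, lift_mk _ (x.w_obj a) rfl ?_⟩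
    show eqToHom _ ≫ f = eqToHom _ ≫ f ≫ eqToHom rfl
    simp
  · obtain ⟨-, e, he⟩ := (vert_iff _ _).1 hb
    change 𝒳.p.obj y = 𝒳.p.obj y' at e
    obtain ⟨R₁, hR₁, hx₁⟩ := hloc y
    obtain ⟨R₂, hR₂, hx₂⟩ := hloc y'
    refine ⟨R₁ ⊓ R₂.pullback (eqToHom e),
      (AlgSp.J S).intersection_covering hR₁ ((AlgSp.J S).pullback_stable _ hR₂), fun V f hf => ?_⟩
    obtain ⟨a, g, hg⟩ := hx₁ f hf.1
    obtain ⟨a', g', hg'⟩ := hx₂ _ hf.2
    obtain ⟨ea, hgm⟩ := lift_spec _ hg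
    obtain ⟨ea', hgm'⟩ := lift_spec _ hg'
    let h : a ⟶ a' := Over.homMk (eqToHom ((x.w_obj a).symm.trans (ea.trans (ea'.symm.trans (x.w_obj a')))))
      (Over.OverMorphism.ext (by rw [left_eq a.hom, Over.comp_left, left_eq a'.hom, Over.w]))
    refine ⟨x.obj a, g, x.map h ≫ g', hg, lift_mk _ ea e.symm ?_, ?_⟩
    · rw [𝒳.p.map_comp, based_map x, hgm']
      simp [h]
    · change 𝒳.p.map g ≫ b = 𝒳.p.map (x.map h ≫ g')
      change b = eqToHom e at he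
      rw [he, 𝒳.p.map_comp, based_map x, hgm, hgm']
      simp [h]

theorem isGerbe_BG [IsAffineHom G.hom] :
    Gerb.IsGerbe (AlgSp.J S) (AlgSt.BG Scheme.fppfPrecoverage G) := by
  let T₀ := QuotTriv.triv Scheme.fppfPrecoverage (AlgSt.trivAction G) (𝟙 (𝟙_ (Over S)))
  refine ⟨Quot.isStack_fppf (AlgSt.trivAction G), fun U => ⟨⊤, (AlgSp.J S).top_mem _, fun V f _ => ?_⟩,
    fun A A' b hb => ?_⟩
  · refine ⟨(QuotTriv.triv Scheme.fppfPrecoverage (AlgSt.trivAction G) (toUnit V)), f, lift_mk _ rfl rfl ?_⟩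
    simp
    rfl
  · obtain ⟨-, e, he⟩ := (vert_iff _ _).1 hb
    change A.base = A'.base at e
    change b = eqToHom e at he
    refine ⟨Sieve.generate (Presieve.singleton A.π) ⊓ (Sieve.generate (Presieve.singleton A'.π)).pullback (eqToHom e),
      (AlgSp.J S).intersection_covering (Quot.generate_π_mem A)
        ((AlgSp.J S).pullback_stable _ (Quot.generate_π_mem A')), fun V f hf => ?_⟩
    obtain ⟨W, p, g, ⟨⟩, hp⟩ := hf.1
    obtain ⟨W', p', g', ⟨⟩, hp'⟩ := hf.2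
    obtain ⟨φ, hφ, -⟩ := exists_hom_of_point A p f hp (toUnit V) (toUnit_unique _ _)
    obtain ⟨ψ, hψ, -⟩ := exists_hom_of_point A' p' (f ≫ eqToHom e) hp' (toUnit V) (toUnit_unique _ _)
    refine ⟨_, φ, ψ, lift_mk _ rfl rfl ?_, lift_mk _ rfl e.symm ?_, ?_⟩
    · show φ.base = _
      rw [hφ]; simp
    · show ψ.base = _
      rw [hψ]; simp
    · show φ.base ≫ b = ψ.base
      rw [he, hφ, hψ]

/-- A point over the base whose automorphisms are an affine group scheme and to which every object is locally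
isomorphic identifies the stack with the classifying stack. -/
theorem exists_equiv_BG [IsAffineHom G.hom] (h𝒳 : Stk.IsStack (AlgSp.J S) 𝒳) (hloc : ∀ y, LocIm.locIm x y)
    (r : Gerb.AutRep x (Gerb.ptsGrp (Over.mk (𝟙 S)) G)) :
    ∃ e : AlgSt.BG Scheme.fppfPrecoverage G ⥤ᵇ 𝒳, IsEquivOver e ∧
      Nonempty (BasedFunctor.comp (AlgSt.quotMap Scheme.fppfPrecoverage G (AlgSt.trivAction G)) e ≅
        BasedFunctor.comp (AlgSt.toOverCat (Over.mk (𝟙 S))) x) := by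
  let D := datum x r
  obtain ⟨i₁⟩ := D.comp_quotMap (K := Scheme.fppfPrecoverage) h𝒳
  obtain ⟨i₂⟩ := onPoints_iso x r
  refine ⟨D.functor h𝒳, isEquivOver_of_autMap isGerbe_BG (isGerbe_of_locIm x h𝒳 hloc)
    (U₀ := 𝟙_ (Over S)) (fun U => ⟨toUnit U⟩) (fun f g => toUnit_unique f g)
    (QuotTriv.triv Scheme.fppfPrecoverage (AlgSt.trivAction G) (𝟙 (𝟙_ (Over S)))) rfl fun A c => ?_, ⟨i₁ ≪≫ i₂⟩⟩
  obtain ⟨e, he⟩ := trivAction_section c
  have hA := (Quot.isStack_fppf (G := G) (AlgSt.trivAction G)).1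
  have hsol := D.existsUnique_aut h𝒳 A e he (fun z cc hcc => datum_bij x r z cc hcc h𝒳.1)
  have vA : ∀ α : Gerb.AutO A, α.hom.1.base = 𝟙 A.base := fun α => by
    have : (AlgSt.BG Scheme.fppfPrecoverage G).p.IsHomLift (𝟙 A.base) α.hom.1 := α.hom.2
    exact map_eq_of_vert (AlgSt.BG Scheme.fppfPrecoverage G).p (R := A.base) α.hom.1
  have vX : ∀ β : Gerb.AutO ((D.functor h𝒳).obj A), 𝒳.p.map β.hom.1 = 𝟙 _ := fun β => by
    have : 𝒳.p.IsHomLift (𝟙 (𝒳.p.obj ((D.functor h𝒳).obj A))) β.hom.1 := β.hom.2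
    simpa using map_eq_of_vert 𝒳.p (R := 𝒳.p.obj ((D.functor h𝒳).obj A)) β.hom.1
  refine ⟨fun α α' h => Aut.ext (Functor.Fiber.hom_ext ?_), fun β => ?_⟩
  · exact (hsol _ (vX (Gerb.autMap (D.functor h𝒳) A α))).unique ⟨vA α, rfl⟩
      ⟨vA α', (congrArg (fun t : Gerb.AutO ((D.functor h𝒳).obj A) => t.hom.1) h).symm⟩
  · obtain ⟨α, hα, hαm⟩ := (hsol _ (vX β)).exists
    have : (AlgSt.BG Scheme.fppfPrecoverage G).p.IsHomLift (𝟙 A.base) α := (vert_iff _ _).2 ⟨rfl, rfl, hα⟩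
    let af : Gerb.fib (𝒳 := AlgSt.BG Scheme.fppfPrecoverage G) A ⟶ Gerb.fib A := ⟨α, this⟩
    have : IsIso af := (fibGrpd_iff.1 hA).2 _ |>.all_isIso af
    exact ⟨asIso af, Aut.ext (Functor.Fiber.hom_ext hαm)⟩

end Groth.Agent.Stk19b.Gerbe.PointBG
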