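import Groth.Agent.H8Lim.FinitePresentation
import Groth.Agent.AlgSpLib.FppfSource
import Groth.Agent.FlatLocal.Descent
import Mathlib.AlgebraicGeometry.Morphisms.Flat

/-!
# Flatness and finite presentation pass to retracts
-/

set_option autoImplicit false

universe u

open CategoryTheory CategoryTheory.Limits AlgebraicGeometry

namespace Groth.Agent.Stk19b.Gerbe

theorem ringHom_flat_of_retract {A B C B' : Type u} [CommRing A] [CommRing B] [CommRing C] [CommRing B']
    (φ : A →+* B) (ψ : B →+* C) (χ : C →+* B') (hb : Function.Bijective (χ.comp ψ)) (h : (ψ.comp φ).Flat) :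
    φ.Flat := by
  algebraize [φ, ψ, ψ.comp φ]
  have : Module.Flat A C := h
  let e := RingEquiv.ofBijective (χ.comp ψ) hb
  let ρ : C →+* B := e.symm.toRingHom.comp χ
  have hρ : ∀ b, ρ (ψ b) = b := fun b => e.symm_apply_apply b
  let r : C →ₐ[A] B := { ρ with commutes' := fun a => hρ (φ a) }
  show Module.Flat A B
  exact Module.Flat.of_retract (IsScalarTower.toAlgHom A B C).toLinearMap r.toLinearMap (LinearMap.ext hρ)

theorem flat_of_retract {W P V : Scheme.{u}} (s : W ⟶ P) (r : P ⟶ W) (h : s ≫ r = 𝟙 W) (π : W ⟶ V)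
    [hf : Flat (r ≫ π)] : Flat π := by
  refine Flat.of_stalkMap π fun w => ?_
  have hw : r (s w) = w := by rw [← Scheme.Hom.comp_apply, h]; rfl
  rw [← hw]
  have h1 : ((r ≫ π).stalkMap (s w)).hom.Flat := Flat.stalkMap (r ≫ π) (s w)
  rw [Scheme.Hom.stalkMap_comp] at h1
  have : IsOpenImmersion (s ≫ r) := by rw [h]; infer_instance
  have h2 : IsIso ((s ≫ r).stalkMap w) := inferInstance
  rw [Scheme.Hom.stalkMap_comp] at h2
  refine ringHom_flat_of_retract _ (r.stalkMap (s w)).hom (s.stalkMap w).hom ?_ h1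
  exact (ConcreteCategory.isIso_iff_bijective (r.stalkMap (s w) ≫ s.stalkMap w)).1 h2

theorem lfp_of_retract {W P V : Scheme.{u}} (s : W ⟶ P) (r : P ⟶ W) (h : s ≫ r = 𝟙 W) (π : W ⟶ V)
    [LocallyOfFinitePresentation (r ≫ π)] : LocallyOfFinitePresentation π := by
  have : LocallyOfFiniteType r := locallyOfFiniteType_of_comp r π
  have : LocallyOfFinitePresentation (s ≫ r) := by rw [h]; infer_instance
  have : LocallyOfFinitePresentation s := H8Lim.lfp_cancel_right s r
  rw [show π = s ≫ r ≫ π by rw [reassoc_of% h]]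
  infer_instance

/-- If a cover of `T` lifts to `P`, properties of `P ⟶ T ⟶ V` descend to `T ⟶ V`. -/
theorem flat_lfp_of_cover_section {T'' P T V : Scheme.{u}} (t : T'' ⟶ T) (q : T'' ⟶ P) (k : P ⟶ T) (p : T ⟶ V)
    (hq : q ≫ k = t) [Flat t] [LocallyOfFinitePresentation t] [Surjective t]
    [Flat (k ≫ p)] [LocallyOfFinitePresentation (k ≫ p)] : Flat p ∧ LocallyOfFinitePresentation p := by
  let s := pullback.lift (f := k) (g := t) q (𝟙 T'') (by rw [hq, Category.id_comp])
  have e : pullback.fst k t ≫ k ≫ p = pullback.snd k t ≫ t ≫ p := pullback.condition_assoc p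
  have hs : s ≫ pullback.snd k t = 𝟙 T'' := pullback.lift_snd _ _ _
  have : Flat (pullback.snd k t ≫ t ≫ p) := by rw [← e]; infer_instance
  have : LocallyOfFinitePresentation (pullback.snd k t ≫ t ≫ p) := by rw [← e]; infer_instance
  have : Flat (t ≫ p) := flat_of_retract s _ hs (t ≫ p)
  have h2 : LocallyOfFinitePresentation (t ≫ p) := lfp_of_retract s _ hs (t ≫ p)
  exact ⟨FlatLocal.flat_of_comp t p, AlgSpLib.lfp_of_comp_fppf t p h2⟩

end Groth.Agent.Stk19b.Gerbe
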