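import Groth.Agent.Stk19b.Gerbe.GlueSigma
import Groth.Agent.Stk19b.Gerbe.Retract
import Groth.Agent.Stk19.Gerbe
import Groth.Agent.Stk19.AlgSt.LocQThm
import Groth.Agent.Stk19.AlgSt.FlatCover
import Groth.Agent.Stk19.AlgSt.UnivInj
import Groth.Agent.Stk19.AlgSt.SepRep
import Groth.Agent.Stk19b.Boot.Stack

/-!
# Gerbes are surjective, flat and locally of finite presentation, together with their diagonals
-/

set_option autoImplicit false
set_option backward.isDefEq.respectTransparency false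
set_option backward.isDefEq.respectTransparency.types false

universe u

open CategoryTheory CategoryTheory.Limits AlgebraicGeometry Opposite FibCat Groth.Agent.Desc19

namespace Groth.Agent.Stk19b.Gerbe

open Groth.Agent.Stk19

section Site

universe v₄ u₄ v₃ u₃ v₂ u₂ v u₁

variable {C : Type u₁} [Category.{v} C] {J : GrothendieckTopology C}
  {𝒩 : BasedCategory.{v₂, u₂} C} {𝒜 : BasedCategory.{v₃, u₃} C}

/-- A section of a gerbe is locally essentially surjective. -/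
theorem locSurjObj_section (h𝒩 : IsFibGrpd 𝒩.p) (h𝒜 : IsFibGrpd 𝒜.p) {π : 𝒩 ⥤ᵇ 𝒜}
    (hπ : Gerb.IsGerbeOver J π) {σ : 𝒜 ⥤ᵇ 𝒩} (e : BasedFunctor.comp σ π ≅ BasedFunctor.id 𝒜) :
    Gerb.LocSurjObj J σ := by
  intro y
  let u₀ := π.obj y
  let X := σ.obj u₀
  have eX : 𝒩.p.obj X = 𝒩.p.obj y := (σ.w_obj u₀).trans (π.w_obj y)
  let b : π.obj X ⟶ π.obj y := e.hom.toNatTrans.app u₀
  have hb : 𝒜.p.map b = eqToHom ((π.w_obj X).trans (eX.trans (π.w_obj y).symm)) := based_app_map e.hom u₀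
  obtain ⟨R, hR, hx⟩ := hπ.2 X y b ((vert_iff _ _).2 ⟨π.w_obj X, _, hb⟩)
  refine ⟨_, J.pullback_stable (eqToHom eX.symm) hR, fun V f hf => ?_⟩
  obtain ⟨x₀, φ, ψ, hφ, hψ, -⟩ := hx _ hf
  have ex₀ : 𝒩.p.obj x₀ = V := IsHomLift.domain_eq 𝒩.p (f ≫ eqToHom eX.symm) φ
  have hφm := IsHomLift.fac' 𝒩.p (f ≫ eqToHom eX.symm) φ
  have hψm := IsHomLift.fac' 𝒩.p (f ≫ eqToHom eX.symm) ψ
  obtain ⟨u, a, eu, ha⟩ := fibGrpd_lift h𝒜 u₀ (f ≫ eqToHom (π.w_obj y).symm)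
  obtain ⟨κ, ⟨hκ, -⟩, -⟩ := fibGrpd_fac h𝒩 φ (σ.map a) (eqToHom ((σ.w_obj u).trans (eu.trans ex₀.symm)))
    (by rw [based_map σ, ha, hφm]; simp)
  refine ⟨u, κ ≫ ψ, lift_mk _ ((σ.w_obj u).trans eu) rfl ?_⟩
  rw [𝒩.p.map_comp, hκ, hψm]
  simp

/-- Local essential surjectivity of the diagonal gives local lifting of arrows. -/
theorem locSurjHom_of_diag (_h𝒩 : IsFibGrpd 𝒩.p) (h𝒜 : IsFibGrpd 𝒜.p) {F : 𝒩 ⥤ᵇ 𝒜}
    (h : Gerb.LocSurjObj J (FibCat.diag F)) : Gerb.LocSurjHom J F := by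
  intro x x' b hb
  obtain ⟨-, ebb, hbm⟩ := (vert_iff _ _).1 hb
  have exx : 𝒩.p.obj x' = 𝒩.p.obj x := (F.w_obj x').symm.trans (ebb.symm.trans (F.w_obj x))
  have : IsIso b :=
    have : IsIso (𝒜.p.map b) := by rw [hbm]; infer_instance
    fibGrpd_isIso h𝒜 b
  let o : (fp F F).obj := fpMk x x' (asIso b) hb
  obtain ⟨R, hR, hx⟩ := h o
  refine ⟨R, hR, fun V f hf => ?_⟩
  obtain ⟨x₀, g, hg⟩ := hx f hf
  have ex₀ : 𝒩.p.obj x₀ = V := IsHomLift.domain_eq (fp F F).p f g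
  have hgm : 𝒩.p.map g.hom.fst = eqToHom ex₀ ≫ f := by
    have := IsHomLift.fac' (fp F F).p f g
    exact this.trans (by simp)
  refine ⟨x₀, g.hom.fst, g.hom.snd, lift_mk _ ex₀ rfl (hgm.trans (by simp)), lift_mk _ ex₀ exx ?_, ?_⟩
  · rw [fp_map_snd g, hgm]
    simp [o, fpMk, FibCat.diag, fpLift]
  · have := g.hom.w
    exact this.trans ((congrArg (· ≫ F.map g.hom.snd) (show ((FibCat.diag F).obj x₀).obj.iso.hom = 𝟙 _ from rfl)).trans
      (Category.id_comp _))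

end Site

variable {S : Scheme.{u}} {𝒳 𝒴 𝒩 : AlgSt.Cat S}

local notation "AS" => AlgSt.IsAlgStack Scheme.fppfPrecoverage
local notation "Sm" => AlgSt.RepByAlgSpWith (AlgSp.LocP @Smooth)
local notation "Srj" => AlgSt.RepByAlgSpWith AlgSp.IsSurjectiveMor
local notation "Fl" => AlgSt.RepByAlgSpWith (AlgSp.LocP @Flat)
local notation "Lp" => AlgSt.RepByAlgSpWith (AlgSp.LocP @LocallyOfFinitePresentation)

theorem prop_of_with_overMap {Q : MorphismProperty Scheme.{u}} [Q.RespectsIso] [Q.IsStableUnderBaseChange]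
    (hQ : AlgSpLib.EtLocal Q) {W U : Over S} {p : W ⟶ U}
    (h : AlgSt.RepByAlgSpWith (AlgSp.LocP Q) (AlgSt.overMap p)) : Q p.left := by
  have h' := (repByAlgSpWith_iff_of_square (f' := AlgSt.overMap p) (f := AlgSt.ofSpMap ((AlgSp.yon S).map p))
    (a := AlgSt.ofOverCat W) (b := AlgSt.ofOverCat U) (isEquivOver_ofOverCat W) (isEquivOver_ofOverCat U)
    (eqToIso (ofOver_overMap p))).1 h
  exact AlgSp.locP_yon_map (prop_of_repByAlgSpWith_ofSpMap (pbStable_locP hQ) (schemeTested_locP hQ)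
    (V := ⟨_, AlgSp.IsAlgSpace.yon_obj W⟩) (Z := ⟨_, AlgSp.IsAlgSpace.yon_obj U⟩) _ h')

/-- If the composite of `p` with a section is flat and locally of finite presentation, so is `p`. -/
theorem flat_lfp_of_section_factor (h𝒩 : AS 𝒩) {V T : Over S} {π : 𝒩 ⥤ᵇ overCat V} {σ : overCat V ⥤ᵇ 𝒩}
    (e : BasedFunctor.comp σ π ≅ BasedFunctor.id (overCat V)) (p : T ⟶ V)
    (h₁ : Fl (BasedFunctor.comp (AlgSt.overMap p) σ)) (h₂ : Lp (BasedFunctor.comp (AlgSt.overMap p) σ)) :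
    Flat p.left ∧ LocallyOfFinitePresentation p.left := by
  let c := BasedFunctor.comp (AlgSt.overMap p) σ
  have hN := isAlgStack_fp h𝒩.isStack h𝒩.diag (isAlgStack_overCat V) (isAlgStack_overCat T) σ c
  obtain ⟨P, m, hm, hms⟩ := hN.atlas
  obtain ⟨ρ, ⟨iρ⟩⟩ := exists_overMap_iso (BasedFunctor.comp m (fpFst σ c))
  obtain ⟨k, ⟨ik⟩⟩ := exists_overMap_iso (BasedFunctor.comp m (fpSnd σ c))
  have hρ₁ : Flat ρ.left := prop_of_with_overMap AlgSpLib.etLocal_flat (repByAlgSpWith_of_iso iρ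
    (with_comp_locP AlgSpLib.etLocal_flat hN.isStack.1 (with_flat_of_smooth hm).1 (repByAlgSpWith_fpFst σ h₁)))
  have hρ₂ : LocallyOfFinitePresentation ρ.left := prop_of_with_overMap AlgSpLib.etLocal_lfp (repByAlgSpWith_of_iso iρ
    (with_comp_locP AlgSpLib.etLocal_lfp hN.isStack.1 (with_flat_of_smooth hm).2 (repByAlgSpWith_fpFst σ h₂)))
  let d : overCat T ⥤ᵇ fp σ c := fpLift (AlgSt.overMap p) (BasedFunctor.id _)
    (show BasedFunctor.comp (AlgSt.overMap p) σ ≅ BasedFunctor.comp (BasedFunctor.id _) c from Iso.refl _)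
  obtain ⟨T'', t, ht₁, ht₂, ht₃, z, ⟨iz⟩⟩ :=
    exists_lift_of_cover (with_flat_of_smooth hm).1 (with_flat_of_smooth hm).2 hms T d
  obtain ⟨q, ⟨iq⟩⟩ := exists_overMap_iso z
  obtain ⟨j₁⟩ := overMap_comp q k
  have hqk : q ≫ k = t := overMap_inj (j₁.symm ≪≫
    (Stk.restr (AlgSt.overMap q) _).mapIso ik.symm ≪≫
    (postB _ (BasedFunctor.comp m (fpSnd σ c))).mapIso iq.symm ≪≫
    (postB _ (fpSnd σ c)).mapIso iz)
  obtain ⟨j₂⟩ := overMap_comp k p
  have hkp : k ≫ p = ρ := (overMap_inj (iρ.symm ≪≫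
    (Stk.restr (BasedFunctor.comp m (fpFst σ c)) _).mapIso e.symm ≪≫
    (postB _ π).mapIso ((Stk.restr m _).mapIso (fpIso σ c)) ≪≫
    (Stk.restr (BasedFunctor.comp m (fpSnd σ c)) _).mapIso ((Stk.restr (AlgSt.overMap p) _).mapIso e) ≪≫
    (postB _ (AlgSt.overMap p)).mapIso ik ≪≫ j₂)).symm
  have : Flat (k.left ≫ p.left) := by rw [← Over.comp_left, hkp]; exact hρ₁
  have : LocallyOfFinitePresentation (k.left ≫ p.left) := by rw [← Over.comp_left, hkp]; exact hρ₂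
  exact flat_lfp_of_cover_section t.left q.left k.left p.left (congrArg CommaMorphism.left hqk)

theorem with_id_overCat {Q : MorphismProperty Scheme.{u}} (hQ : AlgSpLib.EtLocal Q) (V : Over S) :
    AlgSt.RepByAlgSpWith (AlgSp.LocP Q) (BasedFunctor.id (overCat V)) :=
  repByAlgSpWith_of_isEquivOver (isEquivOver_id _) fun U => AlgSpLib.locP_id hQ (AlgSp.IsAlgSpace.yon_obj U)

/-- A gerbe with a section over a scheme, and the section. -/
theorem gerbe_section_scheme (h𝒩 : AS 𝒩) {V : Over S} {π : 𝒩 ⥤ᵇ overCat V}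
    (hπ : Gerb.IsGerbeOver (AlgSp.J S) π) {σ : overCat V ⥤ᵇ 𝒩}
    (e : BasedFunctor.comp σ π ≅ BasedFunctor.id (overCat V)) :
    (AlgSt.LocQ (AlgSp.LocP @Flat) π ∧ AlgSt.LocQ (AlgSp.LocP @LocallyOfFinitePresentation) π) ∧
      AlgSt.IsSurjective σ ∧ AlgSt.LocQ (AlgSp.LocP @Flat) σ ∧
        AlgSt.LocQ (AlgSp.LocP @LocallyOfFinitePresentation) σ := by
  have hV := isAlgStack_overCat V
  obtain ⟨W, w, hw, hws⟩ := h𝒩.atlas
  obtain ⟨T, t, ht₁, ht₂, ht₃, z, ⟨iz⟩⟩ := exists_cover_of_locSurjObj hV.isStack h𝒩.isStack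
    (locSurjObj_section h𝒩.isStack.1 hV.isStack.1 hπ e) W w
  obtain ⟨q, ⟨iq⟩⟩ := exists_overMap_iso z
  have hz₁ : Fl (BasedFunctor.comp z σ) := repByAlgSpWith_of_iso iz.symm
    (with_comp_chart AlgSpLib.etLocal_flat t ht₁ (with_flat_of_smooth hw).1)
  have hz₂ : Lp (BasedFunctor.comp z σ) := repByAlgSpWith_of_iso iz.symm
    (with_comp_chart AlgSpLib.etLocal_lfp t ht₂ (with_flat_of_smooth hw).2)
  obtain ⟨hq₁, hq₂⟩ := flat_lfp_of_section_factor h𝒩 e q (repByAlgSpWith_of_iso ((postB _ σ).mapIso iq) hz₁)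
    (repByAlgSpWith_of_iso ((postB _ σ).mapIso iq) hz₂)
  obtain ⟨p, ⟨ip⟩⟩ := exists_overMap_iso (BasedFunctor.comp w π)
  obtain ⟨j⟩ := overMap_comp t p
  have hqp : q = t ≫ p := overMap_inj (iq.symm ≪≫ (Stk.restr z _).mapIso e.symm ≪≫
    (postB _ π).mapIso iz ≪≫ (Stk.restr (AlgSt.overMap t) _).mapIso ip ≪≫ j)
  have : Flat (t.left ≫ p.left) := by rw [← Over.comp_left, ← hqp]; exact hq₁
  have hp₂ : LocallyOfFinitePresentation (t.left ≫ p.left) := by rw [← Over.comp_left, ← hqp]; exact hq₂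
  have : Flat p.left := FlatLocal.flat_of_comp t.left p.left
  have : LocallyOfFinitePresentation p.left := AlgSpLib.lfp_of_comp_fppf t.left p.left hp₂
  let α : BasedFunctor.comp w π ≅ BasedFunctor.comp (AlgSt.overMap p) (BasedFunctor.id (overCat V)) := ip
  have hidV := with_id_overCat AlgSpLib.etLocal_smooth V
  have hcover : ∀ x : AlgSt.Points 𝒩, ∃ r, AlgSt.Points.map σ (AlgSt.Points.map z r) = x := fun x => by
    obtain ⟨s, rfl⟩ := ofChart_surjective h𝒩.isStack.1 hws x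
    obtain ⟨r, rfl⟩ := t.left.surjective s
    refine ⟨AlgSt.Points.ofChart (BasedFunctor.id _) r, ?_⟩
    rw [← ofChart_eq_map, map_ofChart, ofChart_congr iz, ofChart_overMap]
  have hzs : AlgSt.IsSurjective z := fun v => by
    obtain ⟨r, hr⟩ := hcover (AlgSt.Points.map σ v)
    refine ⟨r, ?_⟩
    have := congrArg (AlgSt.Points.map π) hr
    rwa [← points_map_comp, ← points_map_comp σ π v, points_map_congr e, points_map_congr e, points_map_id,
      points_map_id] at this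
  refine ⟨⟨⟨W, V, w, BasedFunctor.id _, p, α, hw, hws, hidV, locP_flat_yon p⟩,
    ⟨W, V, w, BasedFunctor.id _, p, α, hw, hws, hidV, locP_lfp_yon p⟩⟩,
    fun x => (hcover x).elim fun r hr => ⟨_, hr⟩, ?_, ?_⟩
  · refine locQ_of_precomp smST_flat (isAlgStack_overCat T) hV h𝒩 hzs ?_
      (locQ_of_with smST_flat (isAlgStack_overCat T) h𝒩 hz₁)
    intro G U X t' k x m hx hm j hts hk
    have hz' : Fl z := repByAlgSpWith_of_iso iq.symm (with_overMap AlgSpLib.etLocal_flat q hq₁)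
    have hfib := fibGrpd_fp (isFibGrpd_overCat U) (isFibGrpd_overCat T) (isFibGrpd_overCat V) x z
    have : Flat t'.left := prop_of_with_overMap AlgSpLib.etLocal_flat (repByAlgSpWith_of_iso j
      (with_comp_locP AlgSpLib.etLocal_flat hfib (with_flat_of_smooth hm).1 (repByAlgSpWith_fpFst x hz')))
    rw [locP_yon_iff AlgSpLib.etLocal_flat] at hk ⊢
    have : Flat (t'.left ≫ k.left) := hk
    exact FlatLocal.flat_of_comp t'.left k.left
  · refine locQ_of_precomp smST_lfp (isAlgStack_overCat T) hV h𝒩 hzs ?_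
      (locQ_of_with smST_lfp (isAlgStack_overCat T) h𝒩 hz₂)
    intro G U X t' k x m hx hm j hts hk
    have hz' : Lp z := repByAlgSpWith_of_iso iq.symm (with_overMap AlgSpLib.etLocal_lfp q hq₂)
    have hz'' : Fl z := repByAlgSpWith_of_iso iq.symm (with_overMap AlgSpLib.etLocal_flat q hq₁)
    have hfib := fibGrpd_fp (isFibGrpd_overCat U) (isFibGrpd_overCat T) (isFibGrpd_overCat V) x z
    have : Flat t'.left := prop_of_with_overMap AlgSpLib.etLocal_flat (repByAlgSpWith_of_iso j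
      (with_comp_locP AlgSpLib.etLocal_flat hfib (with_flat_of_smooth hm).1 (repByAlgSpWith_fpFst x hz'')))
    have : LocallyOfFinitePresentation t'.left := prop_of_with_overMap AlgSpLib.etLocal_lfp (repByAlgSpWith_of_iso j
      (with_comp_locP AlgSpLib.etLocal_lfp hfib (with_flat_of_smooth hm).2 (repByAlgSpWith_fpFst x hz')))
    rw [locP_yon_iff AlgSpLib.etLocal_lfp] at hk ⊢
    exact AlgSpLib.lfp_of_comp_fppf t'.left k.left hk

theorem rep1_of_section (h𝒩 : AS 𝒩) (h𝒳 : AS 𝒳) {π : 𝒩 ⥤ᵇ 𝒳} {s : 𝒳 ⥤ᵇ 𝒩}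
    (e : BasedFunctor.comp s π ≅ BasedFunctor.id 𝒳) : AlgSt.RepByAlgSp1 s := by
  have := id_faithful 𝒳
  have i : s.toFunctor ⋙ π.toFunctor ≅ (BasedFunctor.id 𝒳).toFunctor := (BasedNatTrans.forgetful _ _).mapIso e
  have : s.toFunctor.Faithful := Functor.Faithful.of_comp_iso i
  exact repByAlgSp1_of_faithful h𝒳 h𝒩 s

/-- A section of a gerbe is surjective, flat and locally of finite presentation. -/
theorem gerbe_section (h𝒩 : AS 𝒩) (h𝒳 : AS 𝒳) {π : 𝒩 ⥤ᵇ 𝒳}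
    (hπ : Gerb.IsGerbeOver (AlgSp.J S) π) {s : 𝒳 ⥤ᵇ 𝒩} (e : BasedFunctor.comp s π ≅ BasedFunctor.id 𝒳) :
    AlgSt.IsSurjective s ∧ AlgSt.LocQ (AlgSp.LocP @Flat) s ∧
      AlgSt.LocQ (AlgSp.LocP @LocallyOfFinitePresentation) s := by
  obtain ⟨W, w, hw, hws⟩ := h𝒳.atlas
  have hW := isAlgStack_overCat W
  have hN := isAlgStack_fp h𝒳.isStack h𝒳.diag hW h𝒩 w π
  let i : BasedFunctor.comp (BasedFunctor.id (overCat W)) w ≅ BasedFunctor.comp (BasedFunctor.comp w s) π :=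
    ((Stk.restr w _).mapIso e).symm
  let σ : overCat W ⥤ᵇ fp w π := fpLift (BasedFunctor.id _) (BasedFunctor.comp w s) i
  let eσ : BasedFunctor.comp σ (fpFst w π) ≅ BasedFunctor.id (overCat W) := Iso.refl _
  obtain ⟨-, hσs, hσ₁, hσ₂⟩ := gerbe_section_scheme hN
    (gerbeOver_fpFst h𝒩.isStack.1 hW.isStack.1 h𝒳.isStack.1 w hπ) eσ
  have hσr := rep1_of_section hN hW eσ
  have hsnd : Sm (fpSnd w π) := with_equiv_comp (isEquivOver_fpSwap w π) (repByAlgSpWith_fpFst π hw)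
  have hws₁ : Fl (BasedFunctor.comp w s) := with_comp_locP AlgSpLib.etLocal_flat hN.isStack.1
    (with_of_locQ smST_flat (pbStable_locP AlgSpLib.etLocal_flat) (schDescent_locP AlgSpLib.etLocal_flat) hW hN hσr hσ₁)
    (with_flat_of_smooth hsnd).1
  have hws₂ : Lp (BasedFunctor.comp w s) := with_comp_locP AlgSpLib.etLocal_lfp hN.isStack.1
    (with_of_locQ smST_lfp (pbStable_locP AlgSpLib.etLocal_lfp) (schDescent_locP AlgSpLib.etLocal_lfp) hW hN hσr hσ₂)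
    (with_flat_of_smooth hsnd).2
  have hwS : AlgSt.IsSurjective w := isSurjective_of_with h𝒳.isStack.1 hws
  refine ⟨fun x => ?_, ?_, ?_⟩
  · obtain ⟨v, hv⟩ := hwS (AlgSt.Points.map π x)
    obtain ⟨p, -, hp⟩ := exists_points_fp h𝒩.isStack.1 h𝒳.isStack.1 hW.isStack.1 π w v x hv
    obtain ⟨r, rfl⟩ := hσs p
    refine ⟨AlgSt.Points.map w r, ?_⟩
    rw [← hp, ← points_map_comp, ← points_map_comp]
    rfl
  · refine locQ_of_precomp smST_flat hW h𝒳 h𝒩 hwS ?_ (locQ_of_with smST_flat hW h𝒩 hws₁)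
    intro G U X t' k x m hx hm j hts hk
    have : Flat t'.left := prop_of_with_overMap AlgSpLib.etLocal_flat (repByAlgSpWith_of_iso j
      (with_comp_locP AlgSpLib.etLocal_flat (fibGrpd_fp (isFibGrpd_overCat U) hW.isStack.1 h𝒳.isStack.1 x w)
        (with_flat_of_smooth hm).1 (repByAlgSpWith_fpFst x (with_flat_of_smooth hw).1)))
    rw [locP_yon_iff AlgSpLib.etLocal_flat] at hk ⊢
    have : Flat (t'.left ≫ k.left) := hk
    exact FlatLocal.flat_of_comp t'.left k.left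
  · refine locQ_of_precomp smST_lfp hW h𝒳 h𝒩 hwS ?_ (locQ_of_with smST_lfp hW h𝒩 hws₂)
    intro G U X t' k x m hx hm j hts hk
    have hfib := fibGrpd_fp (isFibGrpd_overCat U) hW.isStack.1 h𝒳.isStack.1 x w
    have : Flat t'.left := prop_of_with_overMap AlgSpLib.etLocal_flat (repByAlgSpWith_of_iso j
      (with_comp_locP AlgSpLib.etLocal_flat hfib
        (with_flat_of_smooth hm).1 (repByAlgSpWith_fpFst x (with_flat_of_smooth hw).1)))
    have : LocallyOfFinitePresentation t'.left := prop_of_with_overMap AlgSpLib.etLocal_lfp (repByAlgSpWith_of_iso j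
      (with_comp_locP AlgSpLib.etLocal_lfp hfib
        (with_flat_of_smooth hm).2 (repByAlgSpWith_fpFst x (with_flat_of_smooth hw).2)))
    rw [locP_yon_iff AlgSpLib.etLocal_lfp] at hk ⊢
    exact AlgSpLib.lfp_of_comp_fppf t'.left k.left hk

theorem isSurjective_of_locSurjObj (h𝒳 : AS 𝒳) (h𝒴 : AS 𝒴) {f : 𝒳 ⥤ᵇ 𝒴}
    (hf : Gerb.LocSurjObj (AlgSp.J S) f) : AlgSt.IsSurjective f := fun x => by
  obtain ⟨K, _, str, y, hy⟩ := exists_ofChart_eq x h𝒴.isStack.1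
  obtain ⟨W, c, -, -, hc, z, ⟨iz⟩⟩ := exists_cover_of_locSurjObj h𝒳.isStack h𝒴.isStack hf _ y
  obtain ⟨r, hr⟩ := c.left.surjective (IsLocalRing.closedPoint K)
  refine ⟨AlgSt.Points.ofChart z r, ?_⟩
  rw [map_ofChart, ofChart_congr iz, ofChart_overMap]
  exact hy _

/-- A gerbe is surjective, flat and locally of finite presentation. -/
theorem gerbe_props (h𝒳 : AS 𝒳) (h𝒴 : AS 𝒴) {f : 𝒳 ⥤ᵇ 𝒴} (hf : Gerb.IsGerbeOver (AlgSp.J S) f) :
    AlgSt.IsSurjective f ∧ AlgSt.LocQ (AlgSp.LocP @Flat) f ∧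
      AlgSt.LocQ (AlgSp.LocP @LocallyOfFinitePresentation) f := by
  obtain ⟨V₀, y, hy, hys⟩ := h𝒴.atlas
  obtain ⟨V, c, hc₁, hc₂, hc₃, x, ⟨ix⟩⟩ := exists_cover_of_locSurjObj h𝒳.isStack h𝒴.isStack hf.1 V₀ y
  have hV := isAlgStack_overCat V
  let z := BasedFunctor.comp (AlgSt.overMap c) y
  have hz₁ : Fl z := with_comp_chart AlgSpLib.etLocal_flat c hc₁ (with_flat_of_smooth hy).1
  have hz₂ : Lp z := with_comp_chart AlgSpLib.etLocal_lfp c hc₂ (with_flat_of_smooth hy).2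
  have hzs : AlgSt.IsSurjective z := fun p => by
    obtain ⟨s, rfl⟩ := ofChart_surjective h𝒴.isStack.1 hys p
    obtain ⟨r, rfl⟩ := c.left.surjective s
    exact ⟨AlgSt.Points.ofChart (BasedFunctor.id _) r, by rw [← ofChart_eq_map]; exact ofChart_overMap c y r⟩
  have hN := isAlgStack_fp h𝒴.isStack h𝒴.diag hV h𝒳 z f
  let i : BasedFunctor.comp (BasedFunctor.id (overCat V)) z ≅ BasedFunctor.comp x f := ix.symm
  let eσ : BasedFunctor.comp (fpLift (BasedFunctor.id _) x i) (fpFst z f) ≅ BasedFunctor.id (overCat V) := Iso.refl _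
  obtain ⟨⟨h₁, h₂⟩, -⟩ := gerbe_section_scheme hN
    (gerbeOver_fpFst h𝒳.isStack.1 hV.isStack.1 h𝒴.isStack.1 z hf) eσ
  refine ⟨isSurjective_of_locSurjObj h𝒳 h𝒴 hf.1, locQ_of_fpFst smST_flat h𝒳 h𝒴 hV hzs ?_ h₁,
    locQ_of_fpFst smST_lfp h𝒳 h𝒴 hV hzs ?_ h₂⟩
  · intro G U q y' e hy' he ie hq W k hk
    have hfib := fibGrpd_fp (isFibGrpd_overCat U) hV.isStack.1 h𝒴.isStack.1 y' z
    have : Flat q.left := prop_of_with_overMap AlgSpLib.etLocal_flat (repByAlgSpWith_of_iso ie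
      (with_comp_locP AlgSpLib.etLocal_flat hfib (with_flat_of_smooth he).1 (repByAlgSpWith_fpFst y' hz₁)))
    have : LocallyOfFinitePresentation q.left := prop_of_with_overMap AlgSpLib.etLocal_lfp (repByAlgSpWith_of_iso ie
      (with_comp_locP AlgSpLib.etLocal_lfp hfib (with_flat_of_smooth he).2 (repByAlgSpWith_fpFst y' hz₂)))
    exact descend_yon smST_flat (schDescent_locP AlgSpLib.etLocal_flat) q k hk
  · intro G U q y' e hy' he ie hq W k hk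
    have hfib := fibGrpd_fp (isFibGrpd_overCat U) hV.isStack.1 h𝒴.isStack.1 y' z
    have : Flat q.left := prop_of_with_overMap AlgSpLib.etLocal_flat (repByAlgSpWith_of_iso ie
      (with_comp_locP AlgSpLib.etLocal_flat hfib (with_flat_of_smooth he).1 (repByAlgSpWith_fpFst y' hz₁)))
    have : LocallyOfFinitePresentation q.left := prop_of_with_overMap AlgSpLib.etLocal_lfp (repByAlgSpWith_of_iso ie
      (with_comp_locP AlgSpLib.etLocal_lfp hfib (with_flat_of_smooth he).2 (repByAlgSpWith_fpFst y' hz₂)))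
    exact descend_yon smST_lfp (schDescent_locP AlgSpLib.etLocal_lfp) q k hk

/-- The diagonal of a gerbe is surjective, flat and locally of finite presentation. -/
theorem gerbe_diag_props (h𝒳 : AS 𝒳) (h𝒴 : AS 𝒴) {f : 𝒳 ⥤ᵇ 𝒴} (hf : Gerb.IsGerbeOver (AlgSp.J S) f) :
    AlgSt.IsSurjective (FibCat.diag f) ∧ AlgSt.LocQ (AlgSp.LocP @Flat) (FibCat.diag f) ∧
      AlgSt.LocQ (AlgSp.LocP @LocallyOfFinitePresentation) (FibCat.diag f) :=
  gerbe_section (isAlgStack_fp h𝒴.isStack h𝒴.diag h𝒳 h𝒳 f f) h𝒳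
    (gerbeOver_fpFst h𝒳.isStack.1 h𝒳.isStack.1 h𝒴.isStack.1 f hf) (Iso.refl _)

theorem rep1_diag_of_algStack (h𝒳 : AS 𝒳) (h𝒴 : AS 𝒴) (f : 𝒳 ⥤ᵇ 𝒴) : AlgSt.RepByAlgSp1 (FibCat.diag f) :=
  rep1_of_section (isAlgStack_fp h𝒴.isStack h𝒴.diag h𝒳 h𝒳 f f) h𝒳 (π := fpFst f f) (Iso.refl _)

/-- Morphisms of algebraic stacks which are surjective, flat and locally of finite presentation are locally
essentially surjective. -/
theorem locSurjObj_of_flat_lfp (h𝒳 : AS 𝒳) (h𝒴 : AS 𝒴) {f : 𝒳 ⥤ᵇ 𝒴} (h₁ : AlgSt.IsSurjective f)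
    (h₂ : AlgSt.LocQ (AlgSp.LocP @Flat) f) (h₃ : AlgSt.LocQ (AlgSp.LocP @LocallyOfFinitePresentation) f) :
    Gerb.LocSurjObj (AlgSp.J S) f := by
  obtain ⟨W, w, hw, hf₁, hf₂⟩ := exists_chart_flat_lfp h𝒳 h₂ h₃
  have hs : Srj (BasedFunctor.comp w f) :=
    with_surjective_of_ofChart h𝒴.isStack.1 (repByAlgSp1_of_with hf₁) fun p => by
      obtain ⟨q, rfl⟩ := h₁ p
      obtain ⟨t, rfl⟩ := hw q
      exact ⟨t, (map_ofChart w f t).symm⟩
  intro o
  obtain ⟨y, i, hi⟩ := exists_classifying h𝒴.isStack.1 o rfl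
  have him : 𝒴.p.map i.hom = eqToHom (y.w_obj (Over.mk (𝟙 (𝒴.p.obj o)))) :=
    map_eq_of_vert 𝒴.p (R := 𝒴.p.obj o) i.hom
  obtain ⟨T, c, hc₁, hc₂, hc₃, z, ⟨iz⟩⟩ := exists_lift_of_cover hf₁ hf₂ hs _ y
  have : ∀ _ : PUnit.{u + 1}, Flat c.left := fun _ => hc₁
  have : ∀ _ : PUnit.{u + 1}, LocallyOfFinitePresentation c.left := fun _ => hc₂
  refine ⟨Sieve.ofArrows (fun _ : PUnit.{u + 1} => T) (fun _ => c),
    AlgSpLib.ofArrows_mem_J _ (fun v => ⟨PUnit.unit, hc₃.surj v⟩), fun V g hg => ?_⟩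
  obtain ⟨-, a, rfl⟩ := (Sieve.mem_ofArrows_iff (fun _ : PUnit.{u + 1} => T) (fun _ => c) g).1 hg
  refine ⟨(BasedFunctor.comp z w).obj (Over.mk a),
    iz.hom.toNatTrans.app (Over.mk a) ≫ y.map (toId ((AlgSt.overMap c).obj (Over.mk a))) ≫ i.hom,
    lift_mk _ ((BasedFunctor.comp z (BasedFunctor.comp w f)).w_obj (Over.mk a)) rfl ?_⟩
  erw [𝒴.p.map_comp, 𝒴.p.map_comp, based_app_map iz.hom, based_map y, him]
  simp [toId, AlgSt.overMap]

/-- The converse criterion. -/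
theorem gerbe_of_props (h𝒳 : AS 𝒳) (h𝒴 : AS 𝒴) {f : 𝒳 ⥤ᵇ 𝒴} (h₁ : AlgSt.IsSurjective f)
    (h₂ : AlgSt.LocQ (AlgSp.LocP @Flat) f) (h₃ : AlgSt.LocQ (AlgSp.LocP @LocallyOfFinitePresentation) f)
    (k₁ : AlgSt.IsSurjective (FibCat.diag f))
    (k₂ : AlgSt.LocQ (AlgSp.LocP @Flat) (FibCat.diag f))
    (k₃ : AlgSt.LocQ (AlgSp.LocP @LocallyOfFinitePresentation) (FibCat.diag f)) :
    Gerb.IsGerbeOver (AlgSp.J S) f :=
  ⟨locSurjObj_of_flat_lfp h𝒳 h𝒴 h₁ h₂ h₃, locSurjHom_of_diag h𝒳.isStack.1 h𝒴.isStack.1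
    (locSurjObj_of_flat_lfp h𝒳 (isAlgStack_fp h𝒴.isStack h𝒴.diag h𝒳 h𝒳 f f) k₁ k₂ k₃)⟩

end Groth.Agent.Stk19b.Gerbe
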