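import Groth.Agent.Stk19b.Gerbe.Flat
import Groth.Agent.Stk19.AlgSt.Qc
import Groth.Agent.Stk19.ProdMap

/-!
# Gerbes and quasi-compactness of diagonals
-/

set_option autoImplicit false
set_option backward.isDefEq.respectTransparency false
set_option backward.isDefEq.respectTransparency.types false

universe u

open CategoryTheory CategoryTheory.Limits AlgebraicGeometry Opposite FibCat Groth.Agent.Desc19

namespace Groth.Agent.Stk19b.Gerbe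

open Groth.Agent.Stk19

variable {S : Scheme.{u}} {𝒳 𝒴 : AlgSt.Cat S}

local notation "AS" => AlgSt.IsAlgStack Scheme.fppfPrecoverage

theorem isHomeomorph_of_gerbe (h𝒳 : AS 𝒳) (h𝒴 : AS 𝒴) {f : 𝒳 ⥤ᵇ 𝒴} (hf : Gerb.IsGerbeOver (AlgSp.J S) f) :
    IsHomeomorph (AlgSt.Points.map f) := by
  obtain ⟨hs, h₁, h₂⟩ := gerbe_props h𝒳 h𝒴 hf
  obtain ⟨hd, -, -⟩ := gerbe_diag_props h𝒳 h𝒴 hf
  refine ⟨continuous_points_map h𝒴 _, isOpenMor_of_locQ h𝒳 h𝒴 h₁ h₂, fun a b h => ?_, hs⟩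
  obtain ⟨p, rfl, rfl⟩ := exists_points_fp h𝒳.isStack.1 h𝒴.isStack.1 h𝒳.isStack.1 f f a b h
  obtain ⟨r, rfl⟩ := hd p
  rw [← points_map_comp, ← points_map_comp]
  rfl

theorem qcMor_of_gerbe (h𝒳 : AS 𝒳) (h𝒴 : AS 𝒴) {f : 𝒳 ⥤ᵇ 𝒴} (hf : Gerb.IsGerbeOver (AlgSp.J S) f) :
    AlgSt.IsQuasiCompactMor Scheme.fppfPrecoverage f := fun 𝒯 hT hq g => by
  have hN := isAlgStack_fp h𝒴.isStack h𝒴.diag hT h𝒳 g f
  have := (isQuasiCompact_iff_compactSpace hT).1 hq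
  have h := isHomeomorph_of_gerbe hN hT (gerbeOver_fpFst h𝒳.isStack.1 hT.isStack.1 h𝒴.isStack.1 g hf)
  have : CompactSpace (AlgSt.Points (fp g f)) := h.homeomorph.symm.compactSpace
  exact isQuasiCompact_of_compactSpace hN

theorem qcMor_comp {𝒵 : AlgSt.Cat S} (h𝒴 : AS 𝒴) (h𝒵 : AS 𝒵) {f : 𝒳 ⥤ᵇ 𝒴} {g : 𝒴 ⥤ᵇ 𝒵}
    (hf : AlgSt.IsQuasiCompactMor Scheme.fppfPrecoverage f) (hg : AlgSt.IsQuasiCompactMor Scheme.fppfPrecoverage g) :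
    AlgSt.IsQuasiCompactMor Scheme.fppfPrecoverage (BasedFunctor.comp f g) := fun 𝒯 hT hq a =>
  isQuasiCompact_of_equiv (isEquivOver_fpCompFactor a f g)
    (hf _ (isAlgStack_fp h𝒵.isStack h𝒵.diag hT h𝒴 a g) (hg 𝒯 hT hq a) (fpSnd a g))

theorem qcMor_diag_toSelf_of_gerbe (h𝒳 : AS 𝒳) (h𝒴 : AS 𝒴) {f : 𝒳 ⥤ᵇ 𝒴}
    (hf : Gerb.IsGerbeOver (AlgSp.J S) f)
    (hΔ : AlgSt.IsQuasiCompactMor Scheme.fppfPrecoverage (FibCat.diag (toSelf 𝒳))) :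
    AlgSt.IsQuasiCompactMor Scheme.fppfPrecoverage (FibCat.diag (toSelf 𝒴)) := by
  have hS := isAlgStack_selfOver (S := S)
  have hXX := isAlgStack_fp hS.isStack hS.diag h𝒳 h𝒳 (toSelf 𝒳) (toSelf 𝒳)
  have hYX := isAlgStack_fp hS.isStack hS.diag h𝒴 h𝒳 (toSelf 𝒴) (toSelf 𝒳)
  have hYY := isAlgStack_fp hS.isStack hS.diag h𝒴 h𝒴 (toSelf 𝒴) (toSelf 𝒴)
  have g₁ : Gerb.IsGerbeOver (AlgSp.J S) (prodMapB f (BasedFunctor.id 𝒳)) := by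
    have hQ := fibGrpd_fp hYX.isStack.1 h𝒳.isStack.1 h𝒴.isStack.1 (fpFst (toSelf 𝒴) (toSelf 𝒳)) f
    exact gerbeOver_comp hXX.isStack.1 hQ
      (gerbeOver_of_isEquivOver hQ (isEquivOver_prodLeft f 𝒳) hXX.isStack.1)
      (gerbeOver_fpFst h𝒳.isStack.1 hYX.isStack.1 h𝒴.isStack.1 (fpFst (toSelf 𝒴) (toSelf 𝒳)) hf)
  have g₂ : Gerb.IsGerbeOver (AlgSp.J S) (prodMapB (BasedFunctor.id 𝒴) f) := by
    have hQ := fibGrpd_fp hYY.isStack.1 h𝒳.isStack.1 h𝒴.isStack.1 (fpSnd (toSelf 𝒴) (toSelf 𝒴)) f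
    exact gerbeOver_comp hYX.isStack.1 hQ
      (gerbeOver_of_isEquivOver hQ (isEquivOver_prodRight f 𝒴) hYX.isStack.1)
      (gerbeOver_fpFst h𝒳.isStack.1 hYY.isStack.1 h𝒴.isStack.1 (fpSnd (toSelf 𝒴) (toSelf 𝒴)) hf)
  have hp : AlgSt.IsQuasiCompactMor Scheme.fppfPrecoverage (BasedFunctor.comp (FibCat.diag (toSelf 𝒳))
      (BasedFunctor.comp (prodMapB f (BasedFunctor.id 𝒳)) (prodMapB (BasedFunctor.id 𝒴) f))) :=
    qcMor_comp hXX hYY hΔ (qcMor_comp hYX hYY (qcMor_of_gerbe hXX hYX g₁) (qcMor_of_gerbe hYX hYY g₂))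
  refine qcMor_of_surjective h𝒳 h𝒴 hYY ?_ (gerbe_props h𝒳 h𝒴 hf).1 hp
  exact isoMk (fun a => prodIso (Iso.refl _) (Iso.refl _) (by simp [FibCat.diag, fpLift]))
    (fun a => fpIsoMk_vert _ _ _ (IsHomLift.id rfl))
    (fun φ => fp_hom_ext ((Category.comp_id _).trans (Category.id_comp _).symm)
      ((Category.comp_id _).trans (Category.id_comp _).symm))

end Groth.Agent.Stk19b.Gerbe
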