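import Groth.Agent.Stk19b.Gerbe.Flat
import Groth.Agent.AlgSpLib.SmoothSource

/-!
# Gerbes of algebraic stacks are smooth
-/

set_option autoImplicit false
set_option backward.isDefEq.respectTransparency false
set_option backward.isDefEq.respectTransparency.types false

universe u

open CategoryTheory CategoryTheory.Limits AlgebraicGeometry Opposite FibCat Groth.Agent.Desc19

namespace Groth.Agent.Stk19b.Gerbe

open Groth.Agent.Stk19

variable {S : Scheme.{u}} {𝒳 𝒴 𝒩 : AlgSt.Cat S}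

local notation "AS" => AlgSt.IsAlgStack Scheme.fppfPrecoverage

/-- A gerbe with a section over a scheme is smooth. -/
theorem smooth_of_section_scheme (h𝒩 : AS 𝒩) {V : Over S} {π : 𝒩 ⥤ᵇ overCat V}
    (hπ : Gerb.IsGerbeOver (AlgSp.J S) π) {σ : overCat V ⥤ᵇ 𝒩}
    (e : BasedFunctor.comp σ π ≅ BasedFunctor.id (overCat V)) : AlgSt.LocQ (AlgSp.LocP @Smooth) π := by
  have hV := isAlgStack_overCat V
  obtain ⟨-, hσs, hσ₁, hσ₂⟩ := gerbe_section_scheme h𝒩 hπ e
  have hσr := rep1_of_section h𝒩 hV e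
  have hσF := with_of_locQ smST_flat (pbStable_locP AlgSpLib.etLocal_flat) (schDescent_locP AlgSpLib.etLocal_flat)
    hV h𝒩 hσr hσ₁
  have hσL := with_of_locQ smST_lfp (pbStable_locP AlgSpLib.etLocal_lfp) (schDescent_locP AlgSpLib.etLocal_lfp)
    hV h𝒩 hσr hσ₂
  obtain ⟨W, w, hw, hws⟩ := h𝒩.atlas
  obtain ⟨W', m, k, hm, -, ⟨ik⟩, hx, -, hks⟩ := exists_charts_over hV h𝒩 σ w
  have : Surjective k.left := ⟨hks hσs⟩
  have hfib := fibGrpd_fp (isFibGrpd_overCat W) hV.isStack.1 h𝒩.isStack.1 w σ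
  have : Flat k.left := prop_of_with_overMap AlgSpLib.etLocal_flat (repByAlgSpWith_of_iso ik
    (with_comp_locP AlgSpLib.etLocal_flat hfib (with_flat_of_smooth hm).1 (repByAlgSpWith_fpFst w hσF)))
  have : LocallyOfFinitePresentation k.left := prop_of_with_overMap AlgSpLib.etLocal_lfp (repByAlgSpWith_of_iso ik
    (with_comp_locP AlgSpLib.etLocal_lfp hfib (with_flat_of_smooth hm).2 (repByAlgSpWith_fpFst w hσL)))
  obtain ⟨h, ⟨ih⟩⟩ := exists_overMap_iso (BasedFunctor.comp m (fpSnd w σ))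
  have hh : Smooth h.left := prop_of_with_overMap AlgSpLib.etLocal_smooth (repByAlgSpWith_of_iso ih (hx hw))
  obtain ⟨p, ⟨ip⟩⟩ := exists_overMap_iso (BasedFunctor.comp w π)
  obtain ⟨j⟩ := overMap_comp k p
  have he : k ≫ p = h := overMap_inj (j.symm ≪≫ (Stk.restr (AlgSt.overMap k) _).mapIso ip.symm ≪≫
    (postB _ (BasedFunctor.comp w π)).mapIso ik.symm ≪≫ (postB _ π).mapIso ((Stk.restr m _).mapIso (fpIso w σ)) ≪≫
    (Stk.restr (BasedFunctor.comp m (fpSnd w σ)) _).mapIso e ≪≫ ih)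
  have : Smooth p.left := AlgSpLib.smooth_of_comp_fppf k.left p.left (by rw [← Over.comp_left, he]; exact hh)
  exact ⟨W, V, w, BasedFunctor.id _, p, ip, hw, hws, with_id_overCat AlgSpLib.etLocal_smooth V, smooth_yon p⟩

/-- Gerbes are smooth. -/
theorem gerbe_smooth (h𝒳 : AS 𝒳) (h𝒴 : AS 𝒴) {f : 𝒳 ⥤ᵇ 𝒴} (hf : Gerb.IsGerbeOver (AlgSp.J S) f) :
    AlgSt.LocQ (AlgSp.LocP @Smooth) f := by
  obtain ⟨V₀, y, hy, hys⟩ := h𝒴.atlas
  obtain ⟨V, c, hc₁, hc₂, hc₃, x, ⟨ix⟩⟩ := exists_cover_of_locSurjObj h𝒳.isStack h𝒴.isStack hf.1 V₀ y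
  have hV := isAlgStack_overCat V
  let z := BasedFunctor.comp (AlgSt.overMap c) y
  have hz₁ : AlgSt.RepByAlgSpWith (AlgSp.LocP @Flat) z :=
    with_comp_chart AlgSpLib.etLocal_flat c hc₁ (with_flat_of_smooth hy).1
  have hz₂ : AlgSt.RepByAlgSpWith (AlgSp.LocP @LocallyOfFinitePresentation) z :=
    with_comp_chart AlgSpLib.etLocal_lfp c hc₂ (with_flat_of_smooth hy).2
  have hzs : AlgSt.IsSurjective z := fun p => by
    obtain ⟨s, rfl⟩ := ofChart_surjective h𝒴.isStack.1 hys p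
    obtain ⟨r, rfl⟩ := c.left.surjective s
    exact ⟨AlgSt.Points.ofChart (BasedFunctor.id _) r, by rw [← ofChart_eq_map]; exact ofChart_overMap c y r⟩
  have hN := isAlgStack_fp h𝒴.isStack h𝒴.diag hV h𝒳 z f
  let i : BasedFunctor.comp (BasedFunctor.id (overCat V)) z ≅ BasedFunctor.comp x f := ix.symm
  let eσ : BasedFunctor.comp (fpLift (BasedFunctor.id _) x i) (fpFst z f) ≅ BasedFunctor.id (overCat V) := Iso.refl _
  have h := smooth_of_section_scheme hN (gerbeOver_fpFst h𝒳.isStack.1 hV.isStack.1 h𝒴.isStack.1 z hf) eσ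
  refine locQ_of_fpFst smST_smooth h𝒳 h𝒴 hV hzs ?_ h
  intro G U q y' e hy' he ie hq W k hk
  have hfib := fibGrpd_fp (isFibGrpd_overCat U) hV.isStack.1 h𝒴.isStack.1 y' z
  have : Flat q.left := prop_of_with_overMap AlgSpLib.etLocal_flat (repByAlgSpWith_of_iso ie
    (with_comp_locP AlgSpLib.etLocal_flat hfib (with_flat_of_smooth he).1 (repByAlgSpWith_fpFst y' hz₁)))
  have : LocallyOfFinitePresentation q.left := prop_of_with_overMap AlgSpLib.etLocal_lfp (repByAlgSpWith_of_iso ie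
    (with_comp_locP AlgSpLib.etLocal_lfp hfib (with_flat_of_smooth he).2 (repByAlgSpWith_fpFst y' hz₂)))
  exact descend_yon smST_smooth (schDescent_locP AlgSpLib.etLocal_smooth) q k hk

end Groth.Agent.Stk19b.Gerbe
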