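import Groth.Agent.Stk19b.Gerbe.AutScheme
import Groth.Agent.Stk19b.Quot.DiagFppf
import Groth.Agent.AlgGrpLib.AffineHull

/-!
# The group scheme of automorphisms of a point as a base change of the diagonal
-/

set_option autoImplicit false
set_option backward.isDefEq.respectTransparency false
set_option backward.isDefEq.respectTransparency.types false

universe u

open CategoryTheory CategoryTheory.Limits AlgebraicGeometry Opposite FibCat Groth.Agent.Desc19

namespace Groth.Agent.Stk19b.Gerbe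

open Groth.Agent.Stk19

variable {S : Scheme.{u}} {𝒳 : AlgSt.Cat S} {U : Over S}

/-- A group scheme representing the automorphisms of a point `x` is the base change of the diagonal along `(x, x)`. -/
theorem exists_equiv_autRep_diag (h𝒳 : IsFibGrpd 𝒳.p) (x : overCat U ⥤ᵇ 𝒳) (G : Over U.left) [GrpObj G]
    (r : Gerb.AutRep x (Gerb.ptsGrp U G)) :
    ∃ E : overCat (totalOver U G) ⥤ᵇ fp (pairSelf x x) (FibCat.diag (toSelf 𝒳)), IsEquivOver E ∧
      Nonempty (BasedFunctor.comp E (fpFst (pairSelf x x) (FibCat.diag (toSelf 𝒳))) ≅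
        AlgSt.overMap (totalProj U G)) := by
  let g := totalProj U G
  let m : overCat (totalOver U G) ⥤ᵇ overCat U := AlgSt.overMap g
  let T₁ := m.obj (Over.mk (𝟙 (totalOver U G)))
  let a₀ : (Gerb.ptsGrp U G).obj (op T₁) :=
    (Over.homMk (𝟙 G.left) (by simp [T₁, m, g, AlgSt.overMap]) : Over.mk T₁.hom.left ⟶ G)
  let α₀ := r.iso T₁ a₀
  have : 𝒳.p.IsHomLift (𝟙 (totalOver U G)) α₀.hom.1 :=
    vert_change 𝒳.p _ α₀.hom.2 ((BasedFunctor.comp m x).w_obj _)
  obtain ⟨θ, hθ⟩ := yoneda_iso h𝒳 (BasedFunctor.comp m x) (BasedFunctor.comp m x)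
    (Functor.Fiber.fiberInclusion.mapIso α₀) this
  -- the element attached to a point
  let el : ∀ b : (overCat (totalOver U G)).obj, (Gerb.ptsGrp U G).obj (op (m.obj b)) := fun b =>
    (Gerb.ptsGrp U G).map (m.map (toId b)).op a₀
  have hel : ∀ b, ((el b : Over.mk (m.obj b).hom.left ⟶ G)).left = b.hom.left := fun b => by
    show b.hom.left ≫ 𝟙 G.left = b.hom.left
    exact Category.comp_id _
  have hθb : ∀ b, θ.hom.toNatTrans.app b = (r.iso (m.obj b) (el b)).hom.1 := by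
    intro b
    refine fibGrpd_ext h𝒳 (x.map (m.map (toId b))) ?_ ?_
    · have h2 : 𝒳.p.IsHomLift (𝟙 (𝒳.p.obj (x.obj (m.obj b)))) (r.iso (m.obj b) (el b)).hom.1 :=
        (r.iso (m.obj b) (el b)).hom.2
      rw [based_app_map θ.hom b, map_eq_of_vert 𝒳.p (R := 𝒳.p.obj (x.obj (m.obj b))) _]
    · refine (θ.hom.toNatTrans.naturality (toId b)).symm.trans ?_
      rw [hθ]
      exact (r.natural (m.map (toId b)) a₀).symm
  let i : BasedFunctor.comp m (pairSelf x x) ≅
      BasedFunctor.comp (BasedFunctor.comp m x) (FibCat.diag (toSelf 𝒳)) :=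
    isoMk (fun b => prodIso (Iso.refl _) (appIso θ b) (by
        show 𝒳.p.map (θ.hom.toNatTrans.app b) = _ ≫ 𝒳.p.map (𝟙 _) ≫ _
        rw [based_app_map θ.hom b]
        simp
        exact (Category.id_comp _).symm))
      (fun b => fpIsoMk_vert _ _ _ (IsHomLift.id rfl))
      (fun {b c} φ => fp_hom_ext
        (show x.map (m.map φ) ≫ 𝟙 _ = 𝟙 _ ≫ x.map (m.map φ) from (Category.comp_id _).trans (Category.id_comp _).symm)
        (θ.hom.toNatTrans.naturality φ))
  let E : overCat (totalOver U G) ⥤ᵇ fp (pairSelf x x) (FibCat.diag (toSelf 𝒳)) :=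
    fpLift m (BasedFunctor.comp m x) i
  refine ⟨E, EqvData.isEquivOver ⟨⟨fun {b c} K => ?_⟩, ⟨fun {b c} k k' h => ?_⟩, fun o => ?_⟩, ⟨Iso.refl _⟩⟩
  · -- fullness
    let φ : m.obj b ⟶ m.obj c := K.hom.fst
    have h1 : x.map φ ≫ 𝟙 _ = 𝟙 _ ≫ K.hom.snd := congrArg (fun t => t.hom.fst) K.hom.w
    rw [Category.comp_id, Category.id_comp] at h1
    have hw : x.map φ ≫ θ.hom.toNatTrans.app c = θ.hom.toNatTrans.app b ≫ K.hom.snd :=
      congrArg (fun t => t.hom.snd) K.hom.w
    rw [← h1, hθb, hθb, ← r.natural φ (el c)] at hw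
    have heq : (Gerb.ptsGrp U G).map φ.op (el c) = el b := by
      apply (r.iso (m.obj b)).injective
      refine Aut.ext (Functor.Fiber.hom_ext (fibGrpd_ext h𝒳 (x.map φ) ?_ hw))
      have h1 : 𝒳.p.IsHomLift (𝟙 (𝒳.p.obj (x.obj (m.obj b)))) (r.iso (m.obj b) (el b)).hom.1 :=
        (r.iso (m.obj b) (el b)).hom.2
      have h2 : 𝒳.p.IsHomLift (𝟙 (𝒳.p.obj (x.obj (m.obj b))))
          (r.iso (m.obj b) ((Gerb.ptsGrp U G).map φ.op (el c))).hom.1 :=
        (r.iso (m.obj b) ((Gerb.ptsGrp U G).map φ.op (el c))).hom.2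
      show 𝒳.p.map (r.iso (m.obj b) ((Gerb.ptsGrp U G).map φ.op (el c))).hom.1 =
        𝒳.p.map (r.iso (m.obj b) (el b)).hom.1
      rw [map_eq_of_vert 𝒳.p (R := 𝒳.p.obj (x.obj (m.obj b))) _,
        map_eq_of_vert 𝒳.p (R := 𝒳.p.obj (x.obj (m.obj b))) _]
    have hleft : φ.left.left ≫ c.hom.left = b.hom.left := by
      rw [← hel b, ← heq, ← hel c]
      rfl
    refine ⟨Over.homMk φ.left (Over.OverMorphism.ext hleft), fp_hom_ext (overCat_map_eq _ _ rfl) ?_⟩
    refine Eq.trans ?_ h1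
    show x.map (m.map _) = x.map φ
    congr 1
  · -- faithfulness
    exact Over.OverMorphism.ext (congrArg (fun t => t.hom.fst.left) h)
  · -- surjectivity on objects
    let a := o.obj.fst
    let y := o.obj.snd
    let β := o.obj.iso
    let β1 : x.obj a ≅ y :=
      { hom := β.hom.hom.fst
        inv := β.inv.hom.fst
        hom_inv_id := congrArg (fun t => t.hom.fst) β.hom_inv_id
        inv_hom_id := congrArg (fun t => t.hom.fst) β.inv_hom_id }
    let β2 : x.obj a ≅ y :=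
      { hom := β.hom.hom.snd
        inv := β.inv.hom.snd
        hom_inv_id := congrArg (fun t => t.hom.snd) β.hom_inv_id
        inv_hom_id := congrArg (fun t => t.hom.snd) β.inv_hom_id }
    have v1 : 𝒳.p.IsHomLift (𝟙 ((overCat U).p.obj a)) β1.hom := by
      haveI : (fp (toSelf 𝒳) (toSelf 𝒳)).p.IsHomLift (𝟙 ((overCat U).p.obj a)) β.hom := o.property
      exact BasedFunctor.preserves_isHomLift (fpFst (toSelf 𝒳) (toSelf 𝒳)) (𝟙 ((overCat U).p.obj a)) β.hom
    have v2 : 𝒳.p.IsHomLift (𝟙 ((overCat U).p.obj a)) β2.hom := by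
      haveI : (fp (toSelf 𝒳) (toSelf 𝒳)).p.IsHomLift (𝟙 ((overCat U).p.obj a)) β.hom := o.property
      exact BasedFunctor.preserves_isHomLift (fpSnd (toSelf 𝒳) (toSelf 𝒳)) (𝟙 ((overCat U).p.obj a)) β.hom
    let α : x.obj a ⟶ x.obj a := β2.hom ≫ β1.inv
    have hv : 𝒳.p.IsHomLift (𝟙 ((overCat U).p.obj a)) α := vert_comp 𝒳.p _ _ v2 (vert_inv 𝒳.p β1 v1)
    have : 𝒳.p.IsHomLift (𝟙 (𝒳.p.obj (x.obj a))) α := vert_change 𝒳.p _ hv rfl
    let αf : Gerb.fib (x.obj a) ⟶ Gerb.fib (x.obj a) := ⟨α, this⟩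
    have : IsIso αf := (fibGrpd_iff.1 h𝒳).2 _ |>.all_isIso αf
    let a' : Over.mk a.hom.left ⟶ G := (r.iso a).symm (asIso αf)
    have ha' : (r.iso a a').hom.1 = α := by
      rw [show r.iso a a' = asIso αf from (r.iso a).apply_symm_apply _]
      rfl
    have hb₀ : a'.left ≫ G.hom = a.hom.left := Over.w a'
    let b₀ : (overCat (totalOver U G)).obj :=
      Over.mk (Over.homMk a'.left (by
        show a'.left ≫ G.hom ≫ U.hom = a.left.hom
        rw [reassoc_of% hb₀]
        exact Over.w a.hom) : a.left ⟶ totalOver U G)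
    let j : m.obj b₀ ≅ a := Over.isoMk (Iso.refl _) (Over.OverMorphism.ext (by
      show 𝟙 a.left.left ≫ a.hom.left = a'.left ≫ G.hom
      rw [Category.id_comp, hb₀]))
    have hj : (Gerb.ptsGrp U G).map j.hom.op a' = el b₀ := by
      refine Over.OverMorphism.ext ?_
      rw [hel]
      show 𝟙 a.left.left ≫ a'.left = a'.left
      exact Category.id_comp _
    refine ⟨b₀, fpIsoMk j (x.toFunctor.mapIso j ≪≫ β1) (fp_hom_ext ?_ ?_), fpIsoMk_vert _ _ _ ?_⟩
    · show x.map j.hom ≫ β1.hom = 𝟙 _ ≫ x.map j.hom ≫ β1.hom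
      exact (Category.id_comp _).symm
    · show x.map j.hom ≫ β2.hom = θ.hom.toNatTrans.app b₀ ≫ x.map j.hom ≫ β1.hom
      have hn : θ.hom.toNatTrans.app b₀ ≫ x.map j.hom = x.map j.hom ≫ α := by
        rw [hθb, ← hj, ← ha']
        exact r.natural j.hom a'
      rw [reassoc_of% hn]
      simp [α]
    · exact (vert_iff _ _).2 ⟨rfl, rfl, rfl⟩

/-- The property of a morphism of schemes read off from the functor it induces. -/
theorem prop_yon_of_overMap {P : MorphismProperty (AlgSp.Sp S)} (hP : RespSrc P) {W V : Over S} {p : W ⟶ V}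
    (h : AlgSt.RepByAlgSpWith P (AlgSt.overMap p)) : P ((AlgSp.yon S).map p) := by
  have h' := (repByAlgSpWith_iff_of_square (f' := AlgSt.overMap p) (f := AlgSt.ofSpMap ((AlgSp.yon S).map p))
    (a := AlgSt.ofOverCat W) (b := AlgSt.ofOverCat V) (isEquivOver_ofOverCat W) (isEquivOver_ofOverCat V)
    (eqToIso (ofOver_overMap p))).1 h
  let d := (AlgSp.yon S).map p
  obtain ⟨E, hE, hE₁, -⟩ := exists_fp_equiv (a := 𝟙 ((AlgSp.yon S).obj V)) (b := d) (fst := d)
    (snd := 𝟙 ((AlgSp.yon S).obj W)) (IsPullback.of_vert_isIso ⟨by simp⟩)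
  exact prop_of_chart hP (AlgSp.IsAlgSpace.yon_obj W) (AlgSt.ofSpMap (𝟙 _)) hE (eqToIso hE₁)
    (p := 𝟙 ((AlgSp.yon S).obj V)) (fst := 𝟙 _) (snd := d) (IsPullback.of_horiz_isIso ⟨by simp [d]⟩) (Iso.refl _)
    (h' _ _)

/-- The automorphism group scheme of a field-valued point of a stack with quasi-affine diagonal is affine and
locally of finite type. -/
theorem autScheme_affine_lft {K : Precoverage Scheme.{u}} (h𝒳 : AlgSt.IsAlgStack K 𝒳)
    (hΔ : AlgSt.RepByAlgSpWith AlgSp.IsQuasiAffineMor (FibCat.diag (toSelf 𝒳)))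
    (k : Type u) [Field k] (p : Spec (CommRingCat.of k) ⟶ S) (x : overCat (Over.mk p) ⥤ᵇ 𝒳)
    (G : Over (Over.mk p).left) [GrpObj G] (r : Gerb.AutRep x (Gerb.ptsGrp (Over.mk p) G)) :
    IsAffine G.left ∧ LocallyOfFiniteType G.hom := by
  obtain ⟨E, hE, ⟨i⟩⟩ := exists_equiv_autRep_diag h𝒳.isStack.1 x G r
  have hl : LocallyOfFiniteType G.hom := prop_of_with_overMap AlgSpLib.etLocal_lft (p := totalProj (Over.mk p) G)
    (repByAlgSpWith_of_iso i (with_equiv_comp hE (repByAlgSpWith_fpFst _ (diag_toSelf_lft h𝒳))))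
  have hq := prop_yon_of_overMap (respSrc_of_baseChange Quot.pbStable_quasiAffine)
    (repByAlgSpWith_of_iso i (with_equiv_comp hE (repByAlgSpWith_fpFst _ hΔ)))
  obtain ⟨W, w, fst, sq, hW⟩ := hq (Z := Over.mk p) (show IsAffine (Spec (CommRingCat.of k)) from inferInstance) (𝟙 _)
  haveI : IsIso fst := sq.isIso_fst_of_isIso
  let e : totalOver (Over.mk p) G ≅ W := ((AlgSp.yon S).preimageIso (asIso fst)).symm
  haveI : ((Over.forget S).obj W).IsQuasiAffine := hW
  haveI : G.left.IsQuasiAffine := Scheme.IsQuasiAffine.of_isAffineHom ((Over.forget S).map e.hom)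
  haveI := hl
  let G' : Over (Spec (CommRingCat.of k)) := G
  haveI : CompactSpace G'.left := Scheme.IsQuasiAffine.toCompactSpace
  haveI : QuasiCompact G'.hom := inferInstance
  exact ⟨AlgGrpLib.AffineHull.isAffine_of_isQuasiAffine G', hl⟩

end Groth.Agent.Stk19b.Gerbe
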