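import Groth.Agent.Stk19b.Gerbe.Flat
import Groth.Prelude.Def_StGerb2

/-!
# The group scheme of automorphisms of a point as a fibre product
-/

set_option autoImplicit false
set_option backward.isDefEq.respectTransparency false
set_option backward.isDefEq.respectTransparency.types false

universe u

open CategoryTheory CategoryTheory.Limits AlgebraicGeometry Opposite FibCat Groth.Agent.Desc19

namespace Groth.Agent.Stk19b.Gerbe

open Groth.Agent.Stk19

variable {S : Scheme.{u}} {𝒳 : AlgSt.Cat S} {U : Over S}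

/-- The scheme over `S` underlying a scheme over `U`. -/
noncomputable abbrev totalOver (U : Over S) (G : Over U.left) : Over S := Over.mk (G.hom ≫ U.hom)

/-- Its projection to `U`. -/
noncomputable abbrev totalProj (U : Over S) (G : Over U.left) : totalOver U G ⟶ U := Over.homMk G.hom rfl

/-- A group scheme representing the automorphisms of a point `x` is `U ×_𝒳 U` when the stack lies over `U`. -/
theorem exists_equiv_autRep (h𝒳 : IsFibGrpd 𝒳.p) {π : 𝒳 ⥤ᵇ overCat U} (x : overCat U ⥤ᵇ 𝒳)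
    (e : BasedFunctor.comp x π ≅ BasedFunctor.id (overCat U)) (G : Over U.left) [GrpObj G]
    (r : Gerb.AutRep x (Gerb.ptsGrp U G)) :
    ∃ E : overCat (totalOver U G) ⥤ᵇ fp x x, IsEquivOver E ∧
      Nonempty (BasedFunctor.comp E (fpFst x x) ≅ AlgSt.overMap (totalProj U G)) := by
  let g := totalProj U G
  let m : overCat (totalOver U G) ⥤ᵇ overCat U := AlgSt.overMap g
  let T₁ := m.obj (Over.mk (𝟙 (totalOver U G)))
  let a₀ : (Gerb.ptsGrp U G).obj (op T₁) :=
    (Over.homMk (𝟙 G.left) (by simp [T₁, m, g, AlgSt.overMap]) : Over.mk T₁.hom.left ⟶ G)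
  let α₀ := r.iso T₁ a₀
  have : 𝒳.p.IsHomLift (𝟙 (totalOver U G)) α₀.hom.1 :=
    vert_change 𝒳.p _ α₀.hom.2 ((BasedFunctor.comp m x).w_obj _)
  obtain ⟨θ, hθ⟩ := yoneda_iso h𝒳 (BasedFunctor.comp m x) (BasedFunctor.comp m x)
    (Functor.Fiber.fiberInclusion.mapIso α₀) this
  let E : overCat (totalOver U G) ⥤ᵇ fp x x := fpLift m m θ
  -- the element attached to a point
  let el : ∀ b : (overCat (totalOver U G)).obj, (Gerb.ptsGrp U G).obj (op (m.obj b)) := fun b =>
    (Gerb.ptsGrp U G).map (m.map (toId b)).op a₀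
  have hel : ∀ b, ((el b : Over.mk (m.obj b).hom.left ⟶ G)).left = b.hom.left := fun b => by
    show b.hom.left ≫ 𝟙 G.left = b.hom.left
    exact Category.comp_id _
  have hθb : ∀ b, θ.hom.toNatTrans.app b = (r.iso (m.obj b) (el b)).hom.1 := by
    intro b
    refine fibGrpd_ext h𝒳 (x.map (m.map (toId b))) ?_ ?_
    · have h2 : 𝒳.p.IsHomLift (𝟙 (𝒳.p.obj (x.obj (m.obj b)))) (r.iso (m.obj b) (el b)).hom.1 :=
        (r.iso (m.obj b) (el b)).hom.2
      rw [based_app_map θ.hom b, map_eq_of_vert 𝒳.p (R := 𝒳.p.obj (x.obj (m.obj b))) _]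
    · refine (θ.hom.toNatTrans.naturality (toId b)).symm.trans ?_
      rw [hθ]
      exact (r.natural (m.map (toId b)) a₀).symm
  refine ⟨E, EqvData.isEquivOver ⟨⟨fun {b c} K => ?_⟩, ⟨fun {b c} k k' h => ?_⟩, fun o => ?_⟩, ⟨Iso.refl _⟩⟩
  · -- fullness
    have hsnd : K.hom.snd = K.hom.fst := overCat_map_eq _ _ ((fp_map_snd K).trans (by
      show eqToHom _ ≫ (overCat U).p.map K.hom.fst ≫ eqToHom _ = (overCat U).p.map K.hom.fst
      simp))
    let φ : m.obj b ⟶ m.obj c := K.hom.fst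
    have hw : x.map φ ≫ θ.hom.toNatTrans.app c = θ.hom.toNatTrans.app b ≫ x.map φ :=
      K.hom.w.trans (congrArg (fun t => θ.hom.toNatTrans.app b ≫ x.map t) hsnd)
    rw [hθb, hθb, ← r.natural φ (el c)] at hw
    have heq : (Gerb.ptsGrp U G).map φ.op (el c) = el b := by
      apply (r.iso (m.obj b)).injective
      refine Aut.ext (Functor.Fiber.hom_ext (fibGrpd_ext h𝒳 (x.map φ) ?_ hw))
      have h1 : 𝒳.p.IsHomLift (𝟙 (𝒳.p.obj (x.obj (m.obj b)))) (r.iso (m.obj b) (el b)).hom.1 :=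
        (r.iso (m.obj b) (el b)).hom.2
      have h2 : 𝒳.p.IsHomLift (𝟙 (𝒳.p.obj (x.obj (m.obj b))))
          (r.iso (m.obj b) ((Gerb.ptsGrp U G).map φ.op (el c))).hom.1 :=
        (r.iso (m.obj b) ((Gerb.ptsGrp U G).map φ.op (el c))).hom.2
      show 𝒳.p.map (r.iso (m.obj b) ((Gerb.ptsGrp U G).map φ.op (el c))).hom.1 =
        𝒳.p.map (r.iso (m.obj b) (el b)).hom.1
      rw [map_eq_of_vert 𝒳.p (R := 𝒳.p.obj (x.obj (m.obj b))) _,
        map_eq_of_vert 𝒳.p (R := 𝒳.p.obj (x.obj (m.obj b))) _]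
    have hleft : φ.left.left ≫ c.hom.left = b.hom.left := by
      rw [← hel b, ← heq, ← hel c]
      rfl
    refine ⟨Over.homMk φ.left (Over.OverMorphism.ext hleft), fp_hom_ext (overCat_map_eq _ _ rfl) ?_⟩
    rw [hsnd]
    exact overCat_map_eq _ _ rfl
  · -- faithfulness
    exact Over.OverMorphism.ext (congrArg (fun t => t.hom.fst.left) h)
  · -- surjectivity on objects
    let a := o.obj.fst
    let b := o.obj.snd
    have eab : a.left = b.left := (fp_base_eq o).symm
    let i₀ : π.obj (x.obj a) ⟶ π.obj (x.obj b) := π.map o.obj.iso.hom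
    have hi : ((e.inv.toNatTrans.app a ≫ i₀ ≫ e.hom.toNatTrans.app b : a ⟶ b)).left = eqToHom eab := by
      show (overCat U).p.map (e.inv.toNatTrans.app a ≫ i₀ ≫ e.hom.toNatTrans.app b) = _
      rw [(overCat U).p.map_comp, (overCat U).p.map_comp, based_app_map, based_app_map, based_map π, fp_iso_map]
      simp
    let i : a ⟶ b := e.inv.toNatTrans.app a ≫ i₀ ≫ e.hom.toNatTrans.app b
    have : IsIso i :=
      have : IsIso ((overCat U).p.map i) := by
        show IsIso i.left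
        rw [hi]; infer_instance
      fibGrpd_isIso (isFibGrpd_overCat U) i
    have hinv : (inv i).left = eqToHom eab.symm := by
      rw [← cancel_epi i.left, ← Over.comp_left, IsIso.hom_inv_id, hi]
      simp
    let α : x.obj a ⟶ x.obj a := o.obj.iso.hom ≫ x.map (inv i)
    have hα : 𝒳.p.map α = 𝟙 _ := by
      rw [𝒳.p.map_comp, fp_iso_map, based_map x]
      show _ ≫ _ ≫ (inv i).left ≫ _ = _
      rw [hinv]
      simp
    have : 𝒳.p.IsHomLift (𝟙 (𝒳.p.obj (x.obj a))) α := (vert_iff _ _).2 ⟨rfl, rfl, hα⟩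
    let αf : Gerb.fib (x.obj a) ⟶ Gerb.fib (x.obj a) := ⟨α, this⟩
    have : IsIso αf := (fibGrpd_iff.1 h𝒳).2 _ |>.all_isIso αf
    let a' : Over.mk a.hom.left ⟶ G := (r.iso a).symm (asIso αf)
    have ha' : (r.iso a a').hom.1 = α := by
      rw [show r.iso a a' = asIso αf from (r.iso a).apply_symm_apply _]
      rfl
    have hb₀ : a'.left ≫ G.hom = a.hom.left := Over.w a'
    let b₀ : (overCat (totalOver U G)).obj :=
      Over.mk (Over.homMk a'.left (by
        show a'.left ≫ G.hom ≫ U.hom = a.left.hom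
        rw [reassoc_of% hb₀]
        exact Over.w a.hom) : a.left ⟶ totalOver U G)
    let j : m.obj b₀ ≅ a := Over.isoMk (Iso.refl _) (Over.OverMorphism.ext (by
      show 𝟙 a.left.left ≫ a.hom.left = a'.left ≫ G.hom
      rw [Category.id_comp, hb₀]))
    have hj : (Gerb.ptsGrp U G).map j.hom.op a' = el b₀ := by
      refine Over.OverMorphism.ext ?_
      rw [hel]
      show 𝟙 a.left.left ≫ a'.left = a'.left
      exact Category.id_comp _
    refine ⟨b₀, fpIsoMk j (j ≪≫ asIso i) ?_, fpIsoMk_vert _ _ _ ?_⟩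
    · show x.map j.hom ≫ o.obj.iso.hom = θ.hom.toNatTrans.app b₀ ≫ x.map (j.hom ≫ i)
      rw [hθb, ← hj, x.toFunctor.map_comp]
      refine Eq.trans ?_ ((congrArg (fun t => t ≫ x.map i) (r.natural j.hom a')).symm.trans (Category.assoc _ _ _))
      rw [ha']
      simp only [α, Category.assoc, ← x.toFunctor.map_comp, IsIso.inv_hom_id]
      erw [x.toFunctor.map_id]
      simp
    · exact (vert_iff _ _).2 ⟨rfl, rfl, rfl⟩

/-- The automorphism group scheme of a section of a gerbe over a scheme is flat and locally of finite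
presentation. -/
theorem autScheme_flat_lfp (h𝒳 : AlgSt.IsAlgStack Scheme.fppfPrecoverage 𝒳) {π : 𝒳 ⥤ᵇ overCat U}
    (hπ : Gerb.IsGerbeOver (AlgSp.J S) π) (x : overCat U ⥤ᵇ 𝒳)
    (e : BasedFunctor.comp x π ≅ BasedFunctor.id (overCat U)) (G : Over U.left) [GrpObj G]
    (r : Gerb.AutRep x (Gerb.ptsGrp U G)) : Flat G.hom ∧ LocallyOfFinitePresentation G.hom := by
  have hU := isAlgStack_overCat U
  obtain ⟨-, h₁, h₂⟩ := gerbe_section h𝒳 hU hπ e
  have hr := rep1_of_section h𝒳 hU e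
  have w₁ := with_of_locQ smST_flat (pbStable_locP AlgSpLib.etLocal_flat) (schDescent_locP AlgSpLib.etLocal_flat)
    hU h𝒳 hr h₁
  have w₂ := with_of_locQ smST_lfp (pbStable_locP AlgSpLib.etLocal_lfp) (schDescent_locP AlgSpLib.etLocal_lfp)
    hU h𝒳 hr h₂
  obtain ⟨E, hE, ⟨i⟩⟩ := exists_equiv_autRep h𝒳.isStack.1 x e G r
  exact ⟨prop_of_with_overMap AlgSpLib.etLocal_flat (p := totalProj U G)
      (repByAlgSpWith_of_iso i (with_equiv_comp hE (repByAlgSpWith_fpFst x w₁))),
    prop_of_with_overMap AlgSpLib.etLocal_lfp (p := totalProj U G)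
      (repByAlgSpWith_of_iso i (with_equiv_comp hE (repByAlgSpWith_fpFst x w₂)))⟩

end Groth.Agent.Stk19b.Gerbe
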