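import Groth.Agent.Stk19b.Gerbe.PointBG
import Groth.Agent.Stk19b.LocIm.Space
import Groth.Agent.Stk19b.Gerbe.AutScheme

/-!
# The stack between the base and a stack with a point over the base
-/

set_option autoImplicit false
set_option backward.isDefEq.respectTransparency false
set_option backward.isDefEq.respectTransparency.types false

universe u

open CategoryTheory CategoryTheory.Limits AlgebraicGeometry MonoidalCategory
open Opposite FibCat Groth.Agent.Stk19 Groth.Agent.Desc19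

namespace Groth.Agent.Stk19b.Gerbe.PointBG

variable {S : Scheme.{u}} {𝒳 : AlgSt.Cat S} (x : overCat (Over.mk (𝟙 S)) ⥤ᵇ 𝒳) {G : Over S} [GrpObj G]

theorem locIm_of_gerbe (h : IsFibGrpd 𝒳.p) {π : 𝒳 ⥤ᵇ overCat (Over.mk (𝟙 S))}
    (hπ : Gerb.IsGerbeOver (AlgSp.J S) π) (y : 𝒳.obj) : LocIm.locIm x y := by
  let a : (overCat (Over.mk (𝟙 S))).obj :=
    Over.mk (Over.homMk (𝒳.p.obj y).hom (Category.comp_id _) : 𝒳.p.obj y ⟶ Over.mk (𝟙 S))
  have ey : (π.obj y).left = (π.obj (x.obj a)).left := by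
    rw [show (π.obj y).left = 𝒳.p.obj y from π.w_obj y,
      show (π.obj (x.obj a)).left = 𝒳.p.obj (x.obj a) from π.w_obj _, x.w_obj a]
    rfl
  let b : π.obj y ⟶ π.obj (x.obj a) := Over.homMk (eqToHom ey)
    (Over.OverMorphism.ext (by rw [Over.comp_left, left_eq (π.obj (x.obj a)).hom, left_eq (π.obj y).hom, Over.w]))
  obtain ⟨R, hR, hx⟩ := hπ.2 y (x.obj a) b ((vert_iff _ _).2 ⟨π.w_obj y, ey, rfl⟩)
  refine ⟨R, hR, fun V f hf => ?_⟩
  obtain ⟨x₀, φ, ψ, hφ, hψ, -⟩ := hx f hf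
  obtain ⟨e₀, hφm⟩ := lift_spec _ hφ
  let a' : (overCat (Over.mk (𝟙 S))).obj := Over.mk (f ≫ a.hom)
  let k : a' ⟶ a := Over.homMk f rfl
  have hψm := IsHomLift.fac' 𝒳.p f ψ
  obtain ⟨χ, ⟨hχ, -⟩, -⟩ := fibGrpd_fac h ψ (x.map k) (eqToHom ((x.w_obj a').trans e₀.symm))
    (by rw [hψm, based_map x k]; simp [k, a'])
  refine ⟨a', χ ≫ φ, lift_mk _ (x.w_obj a') rfl ?_⟩
  rw [𝒳.p.map_comp, hχ, hφm, eqToHom_trans_assoc, eqToHom_refl, Category.comp_id]

theorem toLocIm_all (y : (AlgSt.fullSub 𝒳 (LocIm.locIm x)).obj) : LocIm.locIm (LocIm.toLocIm x) y := by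
  obtain ⟨R, hR, hx⟩ := y.property
  refine ⟨R, hR, fun B f hf => ?_⟩
  obtain ⟨a, g, hg⟩ := hx f hf
  obtain ⟨e, hgm⟩ := lift_spec _ hg
  exact ⟨a, ObjectProperty.homMk g, lift_mk _ e rfl (by
    show 𝒳.p.map g = _
    rw [hgm]
    simp)⟩

/-- The automorphisms of a point in its local image. -/
noncomputable def autRepLocIm (h : IsFibGrpd 𝒳.p) (r : Gerb.AutRep x (Gerb.ptsGrp (Over.mk (𝟙 S)) G)) :
    Gerb.AutRep (LocIm.toLocIm x) (Gerb.ptsGrp (Over.mk (𝟙 S)) G) := by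
  have hs := fibGrpd_fullSub h (LocIm.locIm_of_hom (z := x) h)
  have hb : ∀ T, Function.Bijective
      (Gerb.autMap (AlgSt.subIncl 𝒳 (LocIm.locIm x)) ((LocIm.toLocIm x).obj T)) := fun T => by
    refine ⟨fun α β hαβ => Aut.ext (Functor.Fiber.hom_ext (ObjectProperty.hom_ext _ ?_)), fun β => ?_⟩
    · exact congrArg (fun t : Gerb.AutO (x.obj T) => t.hom.1) hαβ
    · let y := (LocIm.toLocIm x).obj T
      let m : y ⟶ y := ObjectProperty.homMk β.hom.1
      have : (AlgSt.fullSub 𝒳 (LocIm.locIm x)).p.IsHomLift (𝟙 (𝒳.p.obj (x.obj T))) m := by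
        have : 𝒳.p.IsHomLift (𝟙 (𝒳.p.obj (x.obj T))) β.hom.1 := β.hom.2
        exact (vert_iff _ _).2 ⟨rfl, rfl, by
          show 𝒳.p.map β.hom.1 = _
          exact (map_eq_of_vert 𝒳.p (R := 𝒳.p.obj (x.obj T)) β.hom.1).trans (eqToHom_refl _ _)⟩
      let mf : Gerb.fib y ⟶ Gerb.fib y := ⟨m, this⟩
      have : IsIso mf := (fibGrpd_iff.1 hs).2 _ |>.all_isIso mf
      exact ⟨asIso mf, Aut.ext (Functor.Fiber.hom_ext rfl)⟩
  refine ⟨fun T => (r.iso T).trans (MulEquiv.ofBijective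
    (Gerb.autMap (AlgSt.subIncl 𝒳 (LocIm.locIm x)) ((LocIm.toLocIm x).obj T)) (hb T)).symm, fun {T' T} h' a => ?_⟩
  have key : ∀ T (a : (Gerb.ptsGrp (Over.mk (𝟙 S)) G).obj (op T)),
      ((MulEquiv.ofBijective (Gerb.autMap (AlgSt.subIncl 𝒳 (LocIm.locIm x)) ((LocIm.toLocIm x).obj T))
        (hb T)).symm (r.iso T a)).hom.1.hom = (r.iso T a).hom.1 := fun T a =>
    congrArg (fun t : Gerb.AutO (x.obj T) => t.hom.1)
      ((MulEquiv.ofBijective (Gerb.autMap (AlgSt.subIncl 𝒳 (LocIm.locIm x)) ((LocIm.toLocIm x).obj T))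
        (hb T)).apply_symm_apply (r.iso T a))
  refine ObjectProperty.hom_ext _ ?_
  show _ ≫ x.map h' = x.map h' ≫ _
  simp only [MulEquiv.trans_apply]
  exact (congrArg (· ≫ x.map h') (key T' _)).trans
    ((r.natural h' a).trans (congrArg (x.map h' ≫ ·) (key T a)).symm)

theorem pcov_overMap {Q : MorphismProperty Scheme.{u}} (hQ : AlgSpLib.EtLocal Q) [Q.RespectsIso]
    [Q.IsStableUnderBaseChange] {W V : Over S} (p : W ⟶ V)
    (hp : ∀ (Z : Over S) (e : Z ⟶ W), Smooth e.left → Q (e ≫ p).left) :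
    PCov (AlgSp.LocP Q) (AlgSt.overMap p) := fun Z e k he i => by
  obtain ⟨e', ⟨j⟩⟩ := Stk19.exists_overMap_iso e
  obtain ⟨c⟩ := Stk19.overMap_comp e' p
  have hk : k = e' ≫ p := Stk19.overMap_inj (i.symm ≪≫ (postB _ (AlgSt.overMap p)).mapIso j ≪≫ c)
  have he' : Smooth e'.left := prop_of_with_overMap AlgSpLib.etLocal_smooth (repByAlgSpWith_of_iso j he)
  rw [hk]
  exact AlgSpLib.locP_of_repWith hQ (AlgSp.IsAlgSpace.yon_obj Z) ((AlgSp.repWith_yon_map_iff Q _).2 (hp Z e' he'))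

theorem good_self (h𝒳 : AlgSt.IsAlgStack Scheme.fppfPrecoverage 𝒳)
    (r : Gerb.AutRep x (Gerb.ptsGrp (Over.mk (𝟙 S)) G)) [Flat G.hom] [LocallyOfFinitePresentation G.hom] :
    Good (AlgSp.LocP @Flat) x x ∧ Good (AlgSp.LocP @LocallyOfFinitePresentation) x x := by
  let π : 𝒳 ⥤ᵇ overCat (Over.mk (𝟙 S)) :=
    { toFunctor :=
        { obj := fun a => Over.mk (Over.homMk (𝒳.p.obj a).hom (Category.comp_id _) : 𝒳.p.obj a ⟶ Over.mk (𝟙 S))
          map := fun f => Over.homMk (𝒳.p.map f) (Over.OverMorphism.ext (Over.w _)) }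
      w := rfl }
  have hw : ∀ a, (π.obj (x.obj a)).left = a.left := fun a => x.w_obj a
  let ex : BasedFunctor.comp x π ≅ BasedFunctor.id (overCat (Over.mk (𝟙 S))) :=
    BasedNatIso.mkNatIso (NatIso.ofComponents (fun a => Over.isoMk (eqToIso (hw a))
      (Over.OverMorphism.ext (by
        show (eqToHom (hw a)).left ≫ a.hom.left = _
        rw [left_eq a.hom, Over.w]
        rfl)))
      fun {a b} f => Over.OverMorphism.ext (by
        show 𝒳.p.map (x.map f) ≫ eqToHom (hw b) = eqToHom (hw a) ≫ f.left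
        rw [based_map x]
        simp)) fun a => (vert_iff _ _).2 ⟨x.w_obj a, hw a, rfl⟩
  obtain ⟨E, hE, ⟨i⟩⟩ := exists_equiv_autRep (U := Over.mk (𝟙 S)) h𝒳.isStack.1 x ex G r
  have : Flat (totalProj (Over.mk (𝟙 S)) G).left := inferInstanceAs (Flat G.hom)
  have : LocallyOfFinitePresentation (totalProj (Over.mk (𝟙 S)) G).left :=
    inferInstanceAs (LocallyOfFinitePresentation G.hom)
  exact ⟨(pcov_equiv hE i).1 (pcov_overMap AlgSpLib.etLocal_flat _ fun Z e _ => inferInstanceAs (Flat (e.left ≫ G.hom))),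
    (pcov_equiv hE i).1 (pcov_overMap AlgSpLib.etLocal_lfp _ fun Z e _ => inferInstanceAs (LocallyOfFinitePresentation (e.left ≫ G.hom)))⟩

end Groth.Agent.Stk19b.Gerbe.PointBG
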