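import Groth.Agent.Stk19b.Gerbe.SectionBG

/-!
# Gerbes are the morphisms that become classifying stacks after an fppf base change
-/

set_option autoImplicit false
set_option backward.isDefEq.respectTransparency false
set_option backward.isDefEq.respectTransparency.types false

universe v₄ u₄ v₃ u₃ v₂ u₂ v u₁ u

open CategoryTheory CategoryTheory.Limits AlgebraicGeometry Opposite FibCat Groth.Agent.Desc19
open MonoidalCategory CartesianMonoidalCategory

namespace Groth.Agent.Stk19b.Gerbe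

open Groth.Agent.Stk19

section Iso

variable {C : Type u₁} [Category.{v} C] {J : GrothendieckTopology C}
  {𝒩 : BasedCategory.{v₂, u₂} C} {𝒜 : BasedCategory.{v₃, u₃} C}

theorem gerbeOver_of_iso {F F' : 𝒩 ⥤ᵇ 𝒜} (i : F ≅ F') (h : Gerb.IsGerbeOver J F) : Gerb.IsGerbeOver J F' := by
  have hn : ∀ {a b : 𝒩.obj} (f : a ⟶ b), F'.map f ≫ i.inv.toNatTrans.app b = i.inv.toNatTrans.app a ≫ F.map f :=
    fun f => i.inv.toNatTrans.naturality f
  have h1 : ∀ a : 𝒩.obj, i.inv.toNatTrans.app a ≫ i.hom.toNatTrans.app a = 𝟙 _ := fun a =>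
    congrArg (fun t : F' ⟶ F' => t.toNatTrans.app a) i.inv_hom_id
  refine ⟨fun y => ?_, fun x x' b hb => ?_⟩
  · obtain ⟨R, hR, hx⟩ := h.1 y
    refine ⟨R, hR, fun V f hf => ?_⟩
    obtain ⟨x, g, hg⟩ := hx f hf
    have ex : 𝒩.p.obj x = V := (F.w_obj x).symm.trans (IsHomLift.domain_eq 𝒜.p f g)
    refine ⟨x, i.inv.toNatTrans.app x ≫ g, lift_mk _ ((F'.w_obj x).trans ex) rfl ?_⟩
    rw [𝒜.p.map_comp, based_app_map, (lift_spec _ hg).choose_spec]
    simp
  · obtain ⟨-, ebb, hbm⟩ := (vert_iff _ _).1 hb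
    have eb : 𝒜.p.obj (F.obj x) = 𝒜.p.obj (F.obj x') :=
      (F.w_obj x).trans ((F'.w_obj x).symm.trans (ebb.trans ((F'.w_obj x').trans (F.w_obj x').symm)))
    let b₀ : F.obj x ⟶ F.obj x' := i.hom.toNatTrans.app x ≫ b ≫ i.inv.toNatTrans.app x'
    obtain ⟨R, hR, hx⟩ := h.2 x x' b₀ ((vert_iff _ _).2 ⟨F.w_obj x, eb, by
      simp only [b₀, 𝒜.p.map_comp, based_app_map, hbm, eqToHom_trans]⟩)
    refine ⟨R, hR, fun V f hf => ?_⟩
    obtain ⟨x₀, φ, ψ, hφ, hψ, e⟩ := hx f hf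
    refine ⟨x₀, φ, ψ, hφ, hψ, ?_⟩
    have hh : F'.map φ ≫ b = i.inv.toNatTrans.app x₀ ≫ (F.map φ ≫ b₀) ≫ i.hom.toNatTrans.app x' := by
      simp only [b₀, Category.assoc, h1, Category.comp_id]
      rw [← reassoc_of% (hn φ), reassoc_of% (h1 x)]
    rw [hh, e, ← reassoc_of% (hn ψ), h1, Category.comp_id]

end Iso

variable {S : Scheme.{u}}

open AlgSp in
/-- A classifying stack is a gerbe over its base. -/
theorem gerbeOver_spQuotToBase {B : Sp S} (G : Over B) [GrpObj G] :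
    Gerb.IsGerbeOver (J S)
      (W4stkstmgerbes.spQuotToBase Scheme.fppfPrecoverage G (AlgSt.trivGAction G)) := by
  refine ⟨fun y => ⟨⊤, (J S).top_mem _, fun V f _ => ?_⟩, fun A A' b hb => ?_⟩
  · let u : (AlgSt.ofSp (𝟙_ (Over B)).left).obj := ⟨V, B.obj.map f.op y.sec⟩
    refine ⟨(SpQuot.qmap (K := Scheme.fppfPrecoverage) (aX := AlgSt.trivGAction G)).obj u, ⟨f, ?_⟩,
      lift_mk _ rfl rfl (by simp)⟩
    show B.obj.map f.op y.sec = (AlgSt.secYon u ≫ (𝟙_ (Over B)).hom).hom.app (op V) (ULift.up (𝟙 V))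
    rw [show AlgSt.secYon u ≫ (𝟙_ (Over B)).hom = bOf (B.obj.map f.op y.sec) from Category.comp_id _, bOf_app, op_id]
    rw [Functor.map_id_apply]
  · obtain ⟨-, ebb, hbm⟩ := (vert_iff _ _).1 hb
    have e : A'.base = A.base := ebb.symm
    have hb' : (yon S).map (eqToHom e.symm) ≫ A'.b = A.b := by
      apply ((J S).uliftYonedaEquiv.{u + 1}).injective
      have h := b.map_sec
      rw [show b.hom = eqToHom e.symm from hbm] at h
      rw [← GrothendieckTopology.uliftYonedaEquiv_naturality]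
      exact h
    let sec : ∀ A₀ : AlgSt.SpQuotObj Scheme.fppfPrecoverage G (AlgSt.trivGAction G), Sieve A₀.base := fun A₀ =>
      { arrows := fun Z g => ∃ s : (yon S).obj Z ⟶ A₀.P.left, s ≫ A₀.π.left = (yon S).map g
        downward_closed := fun {Z Z'} g hg k => by
          obtain ⟨s, hs⟩ := hg
          exact ⟨(yon S).map k ≫ s, by rw [Category.assoc, hs, ← Functor.map_comp]⟩ }
    have hsec : ∀ A₀, sec A₀ ∈ J S A₀.base := fun A₀ => by
      obtain ⟨R, hR, hs⟩ := A₀.loc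
      rw [GrothendieckTopology.mem_over_iff]
      refine GrothendieckTopology.superset_covering _ ?_ (Precoverage.generate_mem_toGrothendieck hR)
      rintro Z g ⟨W, a, c, hc, rfl⟩
      refine (Sieve.overEquiv A₀.base (sec A₀)).downward_closed ?_ a
      rw [Sieve.overEquiv_iff]
      exact hs c hc
    refine ⟨_, (J S).intersection_covering (hsec A) ((J S).pullback_stable (eqToHom e.symm) (hsec A')),
      fun V f hf => ?_⟩
    obtain ⟨⟨s, hs⟩, ⟨s', hs'⟩⟩ := hf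
    let u : (AlgSt.ofSp (𝟙_ (Over B)).left).obj := ⟨V, (J S).uliftYonedaEquiv.{u + 1} ((yon S).map f ≫ A.b)⟩
    have htb : AlgSt.secYon u ≫ (𝟙_ (Over B)).hom = (yon S).map f ≫ A.b :=
      (Category.comp_id _).trans (Equiv.symm_apply_apply _ _)
    let t : SpQuot.trivBase u ⟶ A.P := Over.homMk s (by
      show s ≫ A.P.hom = AlgSt.secYon u ≫ (𝟙_ (Over B)).hom
      rw [htb, ← hs, Category.assoc]
      exact congrArg (s ≫ ·) (Over.w A.π).symm)
    let t' : SpQuot.trivBase u ⟶ A'.P := Over.homMk s' (by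
      show s' ≫ A'.P.hom = AlgSt.secYon u ≫ (𝟙_ (Over B)).hom
      rw [htb, ← hb', ← Category.assoc ((yon S).map f), ← Functor.map_comp, ← hs', Category.assoc]
      exact congrArg (s' ≫ ·) (Over.w A'.π).symm)
    refine ⟨_, SpQuot.ptHom (K := Scheme.fppfPrecoverage) (aX := AlgSt.trivGAction G) A t f hs (toUnit_unique _ _),
      SpQuot.ptHom (K := Scheme.fppfPrecoverage) (aX := AlgSt.trivGAction G) A' t' (f ≫ eqToHom e.symm) hs'
        (toUnit_unique _ _), lift_mk _ rfl rfl (by simp; rfl), lift_mk _ rfl e (by simp; rfl), ?_⟩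
    refine Stk.EltObj.hom_ext ?_
    show f ≫ b.hom = f ≫ eqToHom e.symm
    rw [show b.hom = eqToHom e.symm from hbm]

variable {𝒳 𝒴 : AlgSt.Cat S}

/-- Gerbes are the morphisms which become classifying stacks after an fppf base change. -/
theorem gerbeOver_iff_exists_spBG (h𝒳 : AlgSt.IsAlgStack Scheme.fppfPrecoverage 𝒳)
    (h𝒴 : AlgSt.IsAlgStack Scheme.fppfPrecoverage 𝒴) (π : 𝒳 ⥤ᵇ 𝒴) :
    Gerb.IsGerbeOver (AlgSp.J S) π ↔
      ∃ (U : AlgSp.Space S) (G : Over U.obj) (_ : GrpObj G),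
        AlgSp.IsAlgSpace G.left ∧ AlgSp.LocP @Flat G.hom ∧ AlgSp.LocP @LocallyOfFinitePresentation G.hom ∧
        ∃ u : AlgSt.ofSp U.obj ⥤ᵇ 𝒴,
          AlgSt.RepByAlgSpWith (AlgSp.LocP @Flat) u ∧
          AlgSt.RepByAlgSpWith (AlgSp.LocP @LocallyOfFinitePresentation) u ∧
          AlgSt.RepByAlgSpWith AlgSp.IsSurjectiveMor u ∧
          ∃ e : AlgSt.SpBG Scheme.fppfPrecoverage G ⥤ᵇ FibCat.fp u π,
            FibCat.IsEquivOver e ∧
            Nonempty (BasedFunctor.comp e (FibCat.fpFst u π) ≅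
              W4stkstmgerbes.spQuotToBase Scheme.fppfPrecoverage G (AlgSt.trivGAction G)) := by
  constructor
  · intro hπ
    obtain ⟨V₀, y, hy, hys⟩ := h𝒴.atlas
    obtain ⟨V, c, hc₁, hc₂, hc₃, x, ⟨ix⟩⟩ := exists_cover_of_locSurjObj h𝒳.isStack h𝒴.isStack hπ.1 V₀ y
    let z := BasedFunctor.comp (AlgSt.overMap c) y
    have hz₁ := with_comp_chart AlgSpLib.etLocal_flat c hc₁ (with_flat_of_smooth hy).1
    have hz₂ := with_comp_chart AlgSpLib.etLocal_lfp c hc₂ (with_flat_of_smooth hy).2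
    have hzs : AlgSt.RepByAlgSpWith AlgSp.IsSurjectiveMor z :=
      with_surjective_of_ofChart h𝒴.isStack.1 (repByAlgSp1_of_with hz₁) fun p => by
        obtain ⟨s, rfl⟩ := ofChart_surjective h𝒴.isStack.1 hys p
        obtain ⟨r, rfl⟩ := c.left.surjective s
        exact ⟨r, ofChart_overMap c y r⟩
    let U : AlgSp.Space S := ⟨_, AlgSp.IsAlgSpace.yon_obj V⟩
    have hU : AlgSt.IsAlgStack Scheme.fppfPrecoverage (AlgSt.ofSp U.obj) := (isDM_ofSp U).1
    let u : AlgSt.ofSp U.obj ⥤ᵇ 𝒴 := BasedFunctor.comp (AlgSt.toOverCat V) z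
    have hN := isAlgStack_fp h𝒴.isStack h𝒴.diag hU h𝒳 u π
    let i : BasedFunctor.comp (BasedFunctor.id (AlgSt.ofSp U.obj)) u ≅
        BasedFunctor.comp (BasedFunctor.comp (AlgSt.toOverCat V) x) π :=
      (Stk.restr (AlgSt.toOverCat V) _).mapIso ix.symm
    obtain ⟨G, hG, h₁, h₂, h₃, e, he, he'⟩ := exists_spBG_equiv hN U (fpFst u π)
      (gerbeOver_fpFst h𝒳.isStack.1 hU.isStack.1 h𝒴.isStack.1 u hπ)
      (fpLift (BasedFunctor.id _) (BasedFunctor.comp (AlgSt.toOverCat V) x) i) (Iso.refl _)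
    exact ⟨U, G, hG, h₁, h₂, h₃, u, with_equiv_comp (isEquivOver_toOverCat V) hz₁,
      with_equiv_comp (isEquivOver_toOverCat V) hz₂, with_equiv_comp (isEquivOver_toOverCat V) hzs, e, he, he'⟩
  · rintro ⟨U, G, hG, -, -, -, u, hu₁, hu₂, hu₃, e, he, ⟨ie⟩⟩
    have hU : AlgSt.IsAlgStack Scheme.fppfPrecoverage (AlgSt.ofSp U.obj) := (isDM_ofSp U).1
    exact gerbeOver_of_fpFst h𝒳.isStack.1 hU.isStack.1 h𝒴.isStack.1
      (locSurjObj_of_flat_lfp hU h𝒴 (isSurjective_of_with h𝒴.isStack.1 hu₃)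
        (locQ_of_with smST_flat hU h𝒴 hu₁) (locQ_of_with smST_lfp hU h𝒴 hu₂))
      (gerbeOver_of_equiv_comp e he _ (gerbeOver_of_iso ie.symm (gerbeOver_spQuotToBase G)))

end Groth.Agent.Stk19b.Gerbe
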