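import Groth.Agent.Stk19b.Gerbe.SectionAut
import Groth.Agent.Stk19b.SpQuot.Stack
import Groth.Agent.Stk19b.SpQuot.PointHom
import Groth.Agent.Stk19.Glue
import Groth.Prelude.Def_W4stkstmgerbesQuotBase

/-!
# A gerbe with a section is a classifying stack

An object `ξ` goes to the torsor of arrows from values of the section to `ξ`.
-/

set_option autoImplicit false
set_option backward.isDefEq.respectTransparency false
set_option backward.isDefEq.respectTransparency.types false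

universe u

open CategoryTheory CategoryTheory.Limits AlgebraicGeometry Opposite FibCat Groth.Agent.Desc19
open MonoidalCategory CartesianMonoidalCategory

namespace Groth.Agent.Stk19b.Gerbe

open Groth.Agent.Stk19 Elts

variable {S : Scheme.{u}} {𝒳 : AlgSt.Cat S} {B : AlgSp.Sp S}

/-- The yoneda morphism of a section. -/
noncomputable abbrev bOf {Z : Over S} (c : B.obj.obj (op Z)) : (AlgSp.yon S).obj Z ⟶ B :=
  ((AlgSp.J S).uliftYonedaEquiv.{u + 1}).symm c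

theorem bOf_app {Z V : Over S} (c : B.obj.obj (op Z)) (g : V ⟶ Z) :
    (bOf c).hom.app (op V) (ULift.up g) = B.obj.map g.op c := by
  conv_rhs => rw [← ((AlgSp.J S).uliftYonedaEquiv.{u + 1}).apply_symm_apply c]
  rw [GrothendieckTopology.uliftYonedaEquiv_naturality, GrothendieckTopology.uliftYonedaEquiv_comp]
  rfl

theorem bOf_map {Z V : Over S} (k : V ⟶ Z) (c : B.obj.obj (op Z)) :
    (AlgSp.yon S).map k ≫ bOf c = bOf (B.obj.map k.op c) := by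
  change (AlgSp.J S).uliftYoneda.map k ≫ ((AlgSp.J S).uliftYonedaEquiv).symm c = _
  rw [GrothendieckTopology.uliftYonedaEquiv_symm_naturality_left]

/-- The comparison of the element of a point with the element. -/
noncomputable def psi (t : Stk.EltObj B.obj) : ptEl (bOf t.sec) ⟶ t :=
  ⟨𝟙 t.base, by
    show B.obj.map (𝟙 t.base).op t.sec = (bOf t.sec).hom.app (op t.base) (ULift.up (𝟙 t.base))
    rw [bOf_app]⟩

/-- Its inverse. -/
noncomputable def psi' (t : Stk.EltObj B.obj) : t ⟶ ptEl (bOf t.sec) :=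
  ⟨𝟙 t.base, by
    show B.obj.map (𝟙 t.base).op ((bOf t.sec).hom.app (op t.base) (ULift.up (𝟙 t.base))) = t.sec
    rw [bOf_app, ← Functor.map_comp_apply, ← op_comp, Category.comp_id, op_id, Functor.map_id_apply]⟩

theorem val_comp {H : (Stk.EltObj B.obj)ᵒᵖ ⥤ Type u} {hH : Presheaf.IsSheaf (AlgSp.J S) (totPsh H)} {Z' Z : Over S}
    {c' : (AlgSp.yon S).obj Z' ⟶ B} {c : (AlgSp.yon S).obj Z ⟶ B} (k : Over.mk c' ⟶ Over.mk c)
    (p : Over.mk c ⟶ ov H hH) (φ : ptEl c' ⟶ ptEl c) (hk : k.left = (AlgSp.yon S).map φ.hom) :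
    val (k ≫ p) = H.map φ.op (val p) := by
  rw [val, fam_comp, ← fam_nat p (toUniv ((AlgSt.ofSpMap k.left).obj (univ Z')))]
  erw [← Functor.map_comp_apply]
  rw [← op_comp]
  congr 3
  refine congrArg Quiver.Hom.op (el_hom_ext ?_)
  show 𝟙 Z' ≫ (k.left.hom.app (op Z') (ULift.up (𝟙 Z'))).down = φ.hom
  rw [hk, Category.id_comp]
  exact Category.id_comp φ.hom

/-- The presheaf of arrows to an object. -/
abbrev homPsh (x : AlgSt.ofSp B ⥤ᵇ 𝒳) (ξ : 𝒳.obj) : (Stk.EltObj B.obj)ᵒᵖ ⥤ Type u :=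
  x.toFunctor.op ⋙ yoneda.obj ξ

/-- The base arrow of an arrow from a value of a point. -/
def baseOf (x : AlgSt.ofSp B ⥤ᵇ 𝒳) {t : Stk.EltObj B.obj} {ξ : 𝒳.obj} (a : x.obj t ⟶ ξ) :
    t.base ⟶ 𝒳.p.obj ξ :=
  eqToHom (x.w_obj t).symm ≫ 𝒳.p.map a

theorem baseOf_map (x : AlgSt.ofSp B ⥤ᵇ 𝒳) {s t : Stk.EltObj B.obj} (φ : s ⟶ t) {ξ : 𝒳.obj} (a : x.obj t ⟶ ξ) :
    baseOf x (x.map φ ≫ a) = φ.hom ≫ baseOf x a := by
  rw [baseOf, baseOf, Functor.map_comp, based_map x]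
  simp

theorem baseOf_comp (x : AlgSt.ofSp B ⥤ᵇ 𝒳) {t : Stk.EltObj B.obj} {ξ η : 𝒳.obj} (a : x.obj t ⟶ ξ) (χ : ξ ⟶ η) :
    baseOf x (a ≫ χ) = baseOf x a ≫ 𝒳.p.map χ := by
  rw [baseOf, baseOf, Functor.map_comp, Category.assoc]

theorem baseOf_vert (x : AlgSt.ofSp B ⥤ᵇ 𝒳) {t : Stk.EltObj B.obj} {ξ : 𝒳.obj} (γ : x.obj t ⟶ x.obj t)
    (hγ : 𝒳.p.map γ = 𝟙 _) (a : x.obj t ⟶ ξ) : baseOf x (γ ≫ a) = baseOf x a := by
  rw [baseOf, baseOf, Functor.map_comp, hγ, Category.id_comp]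

theorem map_of_baseOf (x : AlgSt.ofSp B ⥤ᵇ 𝒳) {t : Stk.EltObj B.obj} {ξ : 𝒳.obj} (a : x.obj t ⟶ ξ) :
    𝒳.p.map a = eqToHom (x.w_obj t) ≫ baseOf x a := by
  simp [baseOf]

theorem isSheaf_homPsh (h𝒳 : Stk.IsStack (AlgSp.J S) 𝒳) (x : AlgSt.ofSp B ⥤ᵇ 𝒳) (ξ : 𝒳.obj) :
    Presheaf.IsSheaf (AlgSp.J S) (totPsh (homPsh x ξ)) := by
  rw [isSheaf_iff_isSheaf_of_type]
  intro Z R hR fm hfm
  rw [Presieve.compatible_iff_sieveCompatible] at hfm
  have hB := (isSheaf_iff_isSheaf_of_type _ _).1 B.property R hR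
  have hW := (isSheaf_iff_isSheaf_of_type _ _).1 ((AlgSp.yon S).obj (𝒳.p.obj ξ)).property R hR
  -- restrictions
  have hres : ∀ {V' V : Over S} (g : V' ⟶ V) (f : V ⟶ Z) (hf : R f) (f' : V' ⟶ Z) (hf' : R f'), g ≫ f = f' →
      ∃ φ : el (fm f' hf').1 ⟶ el (fm f hf).1, φ.hom = g ∧ x.map φ ≫ (fm f hf).2 = (fm f' hf').2 := by
    rintro V' V g f hf f' hf' rfl
    have e : (totPsh (homPsh x ξ)).map g.op (fm f hf) = fm (g ≫ f) hf' := (hfm f g hf).symm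
    exact ⟨⟨g, congrArg Sigma.fst e⟩, rfl, Elts.map_eq e _ rfl⟩
  have hBc : Presieve.FamilyOfElements.Compatible (fun V f hf => (fm f hf).1 :
      Presieve.FamilyOfElements B.obj R.arrows) := by
    rw [Presieve.compatible_iff_sieveCompatible]
    exact fun V V' f g hf => congrArg Sigma.fst (hfm f g hf)
  obtain ⟨c, hc, hcu⟩ := hB _ hBc
  let wf : Presieve.FamilyOfElements ((AlgSp.yon S).obj (𝒳.p.obj ξ)).obj R.arrows :=
    fun V f hf => ULift.up (baseOf x (fm f hf).2)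
  have hWc : wf.Compatible := by
    rw [Presieve.compatible_iff_sieveCompatible]
    intro V V' f g hf
    obtain ⟨φ, hφ, e⟩ := hres g f hf (g ≫ f) (R.downward_closed hf g) rfl
    refine ULift.ext _ _ ?_
    show baseOf x (fm (g ≫ f) _).2 = g ≫ baseOf x (fm f hf).2
    rw [← e, baseOf_map, hφ]
  obtain ⟨G₀, hG₀, hG₀u⟩ := hW _ hWc
  obtain ⟨g₀⟩ := G₀
  have hg₀ : ∀ ⦃V : Over S⦄ (f : V ⟶ Z) (hf : R f), f ≫ g₀ = baseOf x (fm f hf).2 := fun V f hf =>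
    congrArg ULift.down (hG₀ f hf)
  obtain ⟨w, ν, ew, hν⟩ := fibGrpd_lift h𝒳.1 ξ g₀
  let φ₀ : ∀ ⦃V : Over S⦄ (f : V ⟶ Z) (hf : R f), el (fm f hf).1 ⟶ el c := fun V f hf => ⟨f, hc f hf⟩
  have hb : ∀ ⦃V : Over S⦄ (f : V ⟶ Z) (hf : R f), ∃! b : x.obj (el (fm f hf).1) ⟶ w,
      𝒳.p.map b = eqToHom (x.w_obj _) ≫ f ≫ eqToHom ew.symm ∧ b ≫ ν = (fm f hf).2 := fun V f hf =>
    fibGrpd_fac h𝒳.1 ν (fm f hf).2 _ (by
      rw [hν, map_of_baseOf x (fm f hf).2, ← hg₀ f hf]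
      simp)
  choose b hbb hbu using hb
  let hx : 𝒳.p.obj (x.obj (el c)) = Z := x.w_obj _
  have hk : ∀ (z : 𝒳.obj) (μ : z ⟶ x.obj (el c)) (hμ : R.arrows (𝒳.p.map μ ≫ eqToHom hx)),
      ∃! κ : z ⟶ x.obj (el (fm _ hμ).1),
        𝒳.p.map κ = eqToHom (x.w_obj (el (fm _ hμ).1)).symm ∧ κ ≫ x.map (φ₀ _ hμ) = μ := fun z μ hμ =>
    fibGrpd_fac h𝒳.1 (x.map (φ₀ _ hμ)) μ _ (by
      rw [based_map x]
      show _ ≫ _ ≫ (𝒳.p.map μ ≫ eqToHom hx) ≫ _ = _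
      simp)
  choose κ hκ hκu using hk
  have hlift : ∀ (z : 𝒳.obj) (μ : z ⟶ x.obj (el c)) (hμ : R.arrows (𝒳.p.map μ ≫ eqToHom hx))
      {V : Over S} (f : V ⟶ Z) (hf : R f) (l : z ⟶ x.obj (el (fm f hf).1)), l ≫ x.map (φ₀ f hf) = μ →
      κ z μ hμ ≫ (fm _ hμ).2 = l ≫ (fm f hf).2 := by
    intro z μ hμ V f hf l hl
    have hlb := congrArg 𝒳.p.map hl
    rw [Functor.map_comp, based_map x] at hlb
    have hfeq : (𝒳.p.map l ≫ eqToHom (x.w_obj (el (fm f hf).1))) ≫ f = 𝒳.p.map μ ≫ eqToHom hx := by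
      rw [← hlb]
      show _ = (_ ≫ _ ≫ f ≫ _) ≫ _
      simp
    obtain ⟨φ, hφ, e⟩ := hres (𝒳.p.map l ≫ eqToHom (x.w_obj (el (fm f hf).1))) f hf _ hμ hfeq
    have hl' : κ z μ hμ ≫ x.map φ = l := fibGrpd_ext h𝒳.1 (x.map (φ₀ f hf))
      (by
        rw [Functor.map_comp, (hκ z μ hμ).1, based_map x]
        show _ ≫ _ ≫ φ.hom ≫ _ = _
        rw [hφ]
        simp)
      (by
        rw [Category.assoc, ← x.toFunctor.map_comp, hl,
          el_hom_ext (show (φ ≫ φ₀ f hf).hom = (φ₀ _ hμ).hom by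
            show φ.hom ≫ f = _
            rw [hφ]
            exact hfeq)]
        exact (hκ z μ hμ).2)
    rw [← e, ← Category.assoc, hl']
  obtain ⟨χ, ⟨hχ, hχt⟩, hχu⟩ := (isPrestackFor_iff_glue h𝒳.1 R).1 ((isStack_isPrestack h𝒳).2 R hR) (x.obj (el c)) w
    hx ew (fun z μ hμ => κ z μ hμ ≫ b _ hμ)
    (fun z μ hμ => by
      rw [Functor.map_comp, (hκ z μ hμ).1, (hbb _ hμ).1]
      simp)
    (fun z' z g μ hμ hμ' => fibGrpd_ext h𝒳.1 ν (by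
        refine ((𝒳.p.map_comp _ _).trans (congrArg₂ (· ≫ ·) (hκ _ _ hμ').1 (hbb _ hμ').1)).trans
          (Eq.trans ?_ ((𝒳.p.map_comp g _).trans (congrArg (𝒳.p.map g ≫ ·)
            ((𝒳.p.map_comp _ _).trans (congrArg₂ (· ≫ ·) (hκ _ _ hμ).1 (hbb _ hμ).1)))).symm)
        simp [Functor.map_comp])
      (by
        rw [Category.assoc, (hbb _ hμ').2, Category.assoc, Category.assoc, (hbb _ hμ).2, ← Category.assoc g]
        exact hlift z' (g ≫ μ) hμ' _ hμ (g ≫ κ z μ hμ) (by rw [Category.assoc, (hκ z μ hμ).2])))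
  refine ⟨⟨c, χ ≫ ν⟩, fun V f hf => ?_, fun q hq => ?_⟩
  · refine Elts.map_mk (φ₀ f hf) rfl ?_
    show x.map (φ₀ f hf) ≫ χ ≫ ν = (fm f hf).2
    have hμ : R.arrows (𝒳.p.map (x.map (φ₀ f hf)) ≫ eqToHom hx) := by
      rw [based_map x]
      convert R.downward_closed hf (eqToHom (x.w_obj (el (fm f hf).1))) using 1
      show _ = _ ≫ f
      simp
      rfl
    rw [← Category.assoc, hχt _ _ hμ, Category.assoc, (hbb _ hμ).2]
    exact (hlift _ _ hμ f hf (𝟙 _) (Category.id_comp _)).trans (Category.id_comp _)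
  · obtain ⟨c', a'⟩ := q
    have hc' : c' = c := hcu c' fun V f hf => congrArg Sigma.fst (hq f hf)
    subst c'
    have ha : ∀ ⦃V : Over S⦄ (f : V ⟶ Z) (hf : R f), x.map (φ₀ f hf) ≫ a' = (fm f hf).2 := fun V f hf =>
      Elts.map_eq (hq f hf) (φ₀ f hf) rfl
    have hg : baseOf x a' = g₀ := congrArg ULift.down (hG₀u (ULift.up (baseOf x a')) fun V f hf => by
      refine ULift.ext _ _ ?_
      show f ≫ baseOf x a' = baseOf x (fm f hf).2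
      rw [← ha f hf, baseOf_map])
    obtain ⟨β, ⟨hβ1, hβ2⟩, -⟩ := fibGrpd_fac h𝒳.1 ν a' (eqToHom (hx.trans ew.symm)) (by
      rw [hν, map_of_baseOf x a', hg]
      simp)
    refine Sigma.ext rfl (heq_of_eq ?_)
    show a' = χ ≫ ν
    rw [← hβ2, hχu β ⟨hβ1, fun z μ hμ => fibGrpd_ext h𝒳.1 ν
      (by rw [Functor.map_comp, hβ1, Functor.map_comp, (hκ z μ hμ).1, (hbb _ hμ).1]; simp)
      (by rw [Category.assoc, hβ2, Category.assoc, (hbb _ hμ).2, ← ha _ hμ, ← Category.assoc, (hκ z μ hμ).2])⟩]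

section Tors

variable (h𝒳 : Stk.IsStack (AlgSp.J S) 𝒳) {π : 𝒳 ⥤ᵇ AlgSt.ofSp B} {x : AlgSt.ofSp B ⥤ᵇ 𝒳}
  (ex : BasedFunctor.comp x π ≅ BasedFunctor.id (AlgSt.ofSp B))
  (hπ : Gerb.IsGerbeOver (AlgSp.J S) π)
  (hA : Presheaf.IsSheaf (AlgSp.J S) (totPsh (uA (autGrp h𝒳.1 x))))

attribute [local instance] grpObj

/-- The group of automorphisms of the section. -/
noncomputable abbrev AG : Over B := ov (uA (autGrp h𝒳.1 x)) hA

/-- The sheaf of arrows to an object. -/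
abbrev AP (ξ : 𝒳.obj) : Over B := ov (homPsh x ξ) (isSheaf_homPsh h𝒳 x ξ)

/-- The action of automorphisms on arrows. -/
noncomputable def hact (ξ : 𝒳.obj) : AlgSp.GAction (AG h𝒳 hA) (AP h𝒳 (x := x) ξ) :=
  action (isSheaf_homPsh h𝒳 x ξ) (fun _ g p => g.a.hom ≫ p)
    (fun {u v} φ g p => by
      show x.map φ.unop ≫ g.a.hom ≫ p = (tr h𝒳.1 x φ.unop g).a.hom ≫ x.map φ.unop ≫ p
      rw [← Category.assoc, ← tr_spec h𝒳.1 x φ.unop g, Category.assoc])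
    (fun u p => Category.id_comp p) (fun u g g' p => Category.assoc _ _ _)

theorem fam_smul {ξ : 𝒳.obj} {Y : Over B} (g : Y ⟶ AG h𝒳 hA) (p : Y ⟶ AP h𝒳 (x := x) ξ)
    (t : Stk.EltObj Y.left.obj) : fam (SpQuot.smul (hact h𝒳 hA ξ) g p) t = (fam g t).a.hom ≫ fam p t := by
  show fam (lift g p ≫ actMap _ _ _) t = _
  rw [fam_actMap, lift_fst, lift_snd]

theorem fam_hact {ξ : 𝒳.obj} {Y : Over B} (k : Y ⟶ AG h𝒳 hA ⊗ AP h𝒳 (x := x) ξ)
    (t : Stk.EltObj Y.left.obj) : fam (k ≫ (hact h𝒳 hA ξ).act) t = (fam (k ≫ fst _ _) t).a.hom ≫ fam (k ≫ snd _ _) t :=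
  fam_actMap _ _ _ k t

include ex in
theorem baseOf_sec {t : Stk.EltObj B.obj} {ξ : 𝒳.obj} (a : x.obj t ⟶ ξ) :
    B.obj.map (baseOf x a).op (secOf π ξ) = t.sec := by
  rw [baseOf, op_comp, Functor.map_comp_apply, secOf_compat π a, secOf_section ex, ← Functor.map_comp_apply, ← op_comp,
    eqToHom_trans, eqToHom_refl, op_id]
  exact Functor.map_id_apply _ _ _

/-- The base map on presheaves. -/
def piPsh (ξ : 𝒳.obj) : totPsh (homPsh x ξ) ⟶ ((AlgSp.yon S).obj (𝒳.p.obj ξ)).obj where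
  app Z := ↾fun p => ULift.up (baseOf x p.2)
  naturality Z Z' f := by
    ext p
    exact ULift.ext _ _ (baseOf_map x _ p.2)

/-- The base map. -/
noncomputable def piA (ξ : 𝒳.obj) : AP h𝒳 (x := x) ξ ⟶ Over.mk (bOf (secOf π ξ)) :=
  Over.homMk (⟨piPsh ξ⟩ : (AP h𝒳 (x := x) ξ).left ⟶ (AlgSp.yon S).obj (𝒳.p.obj ξ)) (by
    apply ObjectProperty.hom_ext
    ext T p
    obtain ⟨Z⟩ := T
    show (bOf (secOf π ξ)).hom.app (op Z) (ULift.up (baseOf x p.2)) = p.1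
    rw [bOf_app, baseOf_sec ex p.2])

theorem pt_piA {ξ : 𝒳.obj} {Z : Over S} {c : (AlgSp.yon S).obj Z ⟶ B} (p : Over.mk c ⟶ AP h𝒳 (x := x) ξ) :
    p.left ≫ (piA h𝒳 ex ξ).left = (AlgSp.yon S).map (baseOf x (val p)) := by
  apply ((AlgSp.J S).uliftYonedaEquiv.{u + 1}).injective
  rw [GrothendieckTopology.uliftYonedaEquiv_comp]
  refine ULift.ext _ _ ?_
  show baseOf x (p.left.hom.app (op Z) (ULift.up (𝟙 Z))).2 = 𝟙 Z ≫ baseOf x (val p)
  rw [Category.id_comp]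
  show _ = baseOf x (x.map (tY p (univ Z)) ≫ _)
  rw [baseOf_map, tY_hom]
  exact (Category.id_comp _).symm

theorem piA_eq_iff {ξ : 𝒳.obj} {Z : Over S} {c : (AlgSp.yon S).obj Z ⟶ B} (p q : Over.mk c ⟶ AP h𝒳 (x := x) ξ) :
    p ≫ piA h𝒳 ex ξ = q ≫ piA h𝒳 ex ξ ↔ baseOf x (val p) = baseOf x (val q) := by
  constructor
  · intro h
    have := congrArg Over.Hom.left h
    rw [Over.comp_left, Over.comp_left, pt_piA, pt_piA] at this
    exact (AlgSp.yon S).map_injective this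
  · intro h
    apply Over.OverMorphism.ext
    rw [Over.comp_left, Over.comp_left, pt_piA, pt_piA, h]

theorem act_piA (ξ : 𝒳.obj) : (hact h𝒳 hA ξ).act ≫ piA h𝒳 ex ξ = snd (AG h𝒳 hA) _ ≫ piA h𝒳 ex ξ :=
  SpQuot.over_hom_ext fun Z c k => by
    rw [← Category.assoc, ← Category.assoc, piA_eq_iff, val, fam_hact,
      baseOf_vert x _ (VAut.vert _)]
    rfl

/-- A point of the sheaf of arrows. -/
noncomputable def ptOfArr {t : Stk.EltObj B.obj} {ξ : 𝒳.obj} (a : x.obj t ⟶ ξ) :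
    Over.mk (bOf t.sec) ⟶ AP h𝒳 (x := x) ξ :=
  ofVal (isSheaf_homPsh h𝒳 x ξ) (x.map (psi t) ≫ a)

theorem val_ptOfArr {t : Stk.EltObj B.obj} {ξ : 𝒳.obj} (a : x.obj t ⟶ ξ) :
    val (ptOfArr h𝒳 a) = x.map (psi t) ≫ a :=
  val_ofVal _

theorem ptOfArr_piA {t : Stk.EltObj B.obj} {ξ : 𝒳.obj} (a : x.obj t ⟶ ξ) :
    (ptOfArr h𝒳 a).left ≫ (piA h𝒳 ex ξ).left = (AlgSp.yon S).map (baseOf x a) := by
  rw [pt_piA, val_ptOfArr, baseOf_map]
  exact congrArg _ (Category.id_comp _)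

/-- The sieve of base arrows of arrows from values. -/
def arrSieve (x : AlgSt.ofSp B ⥤ᵇ 𝒳) (ξ : 𝒳.obj) : Sieve (𝒳.p.obj ξ) where
  arrows V g := ∃ (c : B.obj.obj (op V)) (a : x.obj (el c) ⟶ ξ), baseOf x a = g
  downward_closed {V V'} g hg k := by
    obtain ⟨c, a, rfl⟩ := hg
    exact ⟨B.obj.map k.op c, x.map (⟨k, rfl⟩ : el (B.obj.map k.op c) ⟶ el c) ≫ a, baseOf_map x _ a⟩

include h𝒳 ex hπ in
theorem arrSieve_mem (ξ : 𝒳.obj) : arrSieve x ξ ∈ AlgSp.J S (𝒳.p.obj ξ) := by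
  obtain ⟨R, hR, hx⟩ := locSurjObj_section h𝒳.1 (isStack_ofSp B).1 hπ ex ξ
  refine GrothendieckTopology.superset_covering _ (fun V f hf => ?_) hR
  obtain ⟨⟨Z, c⟩, g, hg⟩ := hx f hf
  have eZ : Z = V := (x.w_obj ⟨Z, c⟩).symm.trans (IsHomLift.domain_eq 𝒳.p f g)
  subst eZ
  obtain ⟨e, he⟩ := lift_spec 𝒳.p hg
  refine ⟨c, g, ?_⟩
  rw [baseOf, he, eqToHom_trans_assoc, eqToHom_refl, Category.id_comp]

/-- The torsor of an object. -/
noncomputable def tors (ξ : 𝒳.obj) :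
    AlgSt.SpQuotObj Scheme.fppfPrecoverage (AG h𝒳 hA) (AlgSt.trivGAction (AG h𝒳 hA)) where
  base := 𝒳.p.obj ξ
  b := bOf (secOf π ξ)
  P := AP h𝒳 (x := x) ξ
  act := hact h𝒳 hA ξ
  π := piA h𝒳 ex ξ
  cart := SpQuot.isPullback_act _ _ (act_piA h𝒳 ex hA ξ) fun Z c p q hqp => by
    have hb := (piA_eq_iff h𝒳 ex q p).1 hqp
    obtain ⟨r, ⟨hr1, hr2⟩, hru⟩ := fibGrpd_fac h𝒳.1 (val p) (val q) (𝟙 _)
      (by rw [Category.id_comp, map_of_baseOf x (val p), map_of_baseOf x (val q), hb])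
    haveI : IsIso (𝒳.p.map r) := by rw [hr1]; infer_instance
    haveI := fibGrpd_isIso h𝒳.1 r
    let α : VAut (x.obj (ptEl c)) := ⟨asIso r, hr1⟩
    refine ⟨ofVal hA α, pt_ext ?_, fun g hg => pt_ext ?_⟩
    · rw [val, fam_smul]
      show (val (ofVal hA α)).a.hom ≫ val p = val q
      rw [val_ofVal]
      exact hr2
    · rw [val_ofVal]
      refine VAut.ext' (hru _ ⟨VAut.vert _, ?_⟩)
      refine Eq.trans ?_ (congrArg val (show SpQuot.smul (hact h𝒳 hA ξ) g p = q from hg))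
      exact (fam_smul h𝒳 hA g p (univ Z)).symm
  loc := by
    obtain ⟨R', hR', hle⟩ := AlgSpLib.exists_precoverage_of_mem (arrSieve_mem h𝒳 ex hπ ξ)
    refine ⟨R', hR', fun T' f hf => ?_⟩
    obtain ⟨c, a, ha⟩ := hle f hf
    exact ⟨(ptOfArr h𝒳 a).left, (ptOfArr_piA h𝒳 ex a).trans (congrArg _ ha)⟩
  φ := toUnit _
  eqv := toUnit_unique _ _

/-- The map of torsors of an arrow. -/
noncomputable def torsTop {ξ η : 𝒳.obj} (χ : ξ ⟶ η) : AP h𝒳 (x := x) ξ ⟶ AP h𝒳 (x := x) η :=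
  mapH (Functor.whiskerLeft x.toFunctor.op (yoneda.map χ))

theorem fam_torsTop {ξ η : 𝒳.obj} (χ : ξ ⟶ η) {Y : Over B} (k : Y ⟶ AP h𝒳 (x := x) ξ)
    (t : Stk.EltObj Y.left.obj) : fam (k ≫ torsTop h𝒳 χ) t = fam k t ≫ χ :=
  fam_mapH _ _ _

theorem torsTop_eqv {ξ η : 𝒳.obj} (χ : ξ ⟶ η) :
    (hact h𝒳 hA ξ).act ≫ torsTop h𝒳 χ = (AG h𝒳 hA ◁ torsTop h𝒳 χ) ≫ (hact h𝒳 hA η).act :=
  hom_ext fun t => by
    rw [fam_torsTop, fam_hact, whiskerLeft_fst, whiskerLeft_snd, fam_torsTop]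
    rw [← Category.id_comp (hact h𝒳 hA ξ).act, fam_hact, Category.id_comp, Category.id_comp, Category.assoc]

/-- The arrow of torsors of an arrow. -/
noncomputable def torsMap {ξ η : 𝒳.obj} (χ : ξ ⟶ η) : tors h𝒳 ex hπ hA ξ ⟶ tors h𝒳 ex hπ hA η where
  base := 𝒳.p.map χ
  wb := by
    show (AlgSp.yon S).map (𝒳.p.map χ) ≫ bOf (secOf π η) = bOf (secOf π ξ)
    rw [← secOf_compat π χ]
    exact bOf_map _ _
  top := torsTop h𝒳 χ
  eqv := torsTop_eqv h𝒳 hA χ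
  cart := by
    refine SpQuot.isPullback_of_points (SpQuot.over_hom_ext fun Z c k => Over.OverMorphism.ext ?_)
      fun Z c p q hpq => ?_
    · show (k.left ≫ (torsTop h𝒳 χ).left ≫ (piA h𝒳 ex η).left) = k.left ≫ (piA h𝒳 ex ξ).left ≫ _
      rw [← Category.assoc, ← Over.comp_left, pt_piA, ← Category.assoc, pt_piA, val, fam_torsTop, baseOf_comp,
        Functor.map_comp]
      rfl
    · obtain ⟨g, hg⟩ := (AlgSp.yon S).map_surjective q.left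
      have hb : baseOf x (val p) = g ≫ 𝒳.p.map χ := (AlgSp.yon S).map_injective (by
        rw [Functor.map_comp, hg]
        exact (pt_piA h𝒳 ex p).symm.trans (congrArg CommaMorphism.left hpq))
      obtain ⟨r, ⟨hr1, hr2⟩, hru⟩ := fibGrpd_fac h𝒳.1 χ (val p) (eqToHom (x.w_obj (ptEl c)) ≫ g)
        (by rw [map_of_baseOf x (val p), hb, Category.assoc])
      refine ⟨ofVal _ r, ⟨pt_ext ?_, Over.OverMorphism.ext ?_⟩, fun l ⟨hl1, hl2⟩ => pt_ext ?_⟩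
      · rw [val, fam_torsTop]
        show val (c := c) (ofVal (isSheaf_homPsh h𝒳 x ξ) r) ≫ χ = val p
        rw [val_ofVal]
        exact hr2
      · show (ofVal _ r).left ≫ (piA h𝒳 ex ξ).left = q.left
        rw [pt_piA, val_ofVal, ← hg, baseOf, hr1, eqToHom_trans_assoc, eqToHom_refl, Category.id_comp]
      · rw [val_ofVal]
        refine hru _ ⟨?_, ?_⟩
        · rw [map_of_baseOf x (val l)]
          congr 1
          refine (AlgSp.yon S).map_injective ?_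
          rw [← pt_piA h𝒳 ex, hg, ← hl2]
          rfl
        · rw [← hl1, val, val, fam_torsTop]
  wφ := toUnit_unique _ _

/-- The torsor functor. -/
noncomputable def torsFun :
    𝒳 ⥤ᵇ AlgSt.SpBG Scheme.fppfPrecoverage (AG h𝒳 hA) where
  toFunctor :=
    { obj := fun ξ => tors h𝒳 ex hπ hA ξ
      map := fun χ => torsMap h𝒳 ex hπ hA χ
      map_id := fun ξ => AlgSt.SpQuotObj.hom_ext (𝒳.p.map_id ξ) (hom_ext fun t => by
        show fam (torsTop h𝒳 (𝟙 ξ)) t = fam (𝟙 (AP h𝒳 (x := x) ξ)) t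
        rw [← Category.id_comp (torsTop h𝒳 (𝟙 ξ)), fam_torsTop, Category.comp_id])
      map_comp := fun {ξ η ζ} χ χ' => AlgSt.SpQuotObj.hom_ext (𝒳.p.map_comp χ χ') (hom_ext fun t => by
        show fam (torsTop h𝒳 (χ ≫ χ')) t = fam (torsTop h𝒳 χ ≫ torsTop h𝒳 χ') t
        rw [← Category.id_comp (torsTop h𝒳 (χ ≫ χ')), fam_torsTop, fam_torsTop,
          ← Category.id_comp (torsTop h𝒳 χ), fam_torsTop, Category.assoc]) }
  w := rfl

section Full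

variable {ξ η : 𝒳.obj} (θ : tors h𝒳 ex hπ hA ξ ⟶ tors h𝒳 ex hπ hA η)

/-- The image of an arrow under a map of torsors. -/
noncomputable def hv {t : Stk.EltObj B.obj} (a : x.obj t ⟶ ξ) : x.obj t ⟶ η :=
  x.map (psi' t) ≫ val (ptOfArr h𝒳 a ≫ θ.top)

theorem baseOf_hv {t : Stk.EltObj B.obj} (a : x.obj t ⟶ ξ) :
    baseOf x (hv h𝒳 ex hπ hA θ a) = baseOf x a ≫ AlgSt.SpQuotObj.Hom.base θ := by
  rw [hv, baseOf_map]
  refine (Category.id_comp _).trans ((AlgSp.yon S).map_injective ?_)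
  rw [← pt_piA h𝒳 ex, Functor.map_comp, ← ptOfArr_piA h𝒳 ex a, Over.comp_left, Category.assoc, Category.assoc]
  exact congrArg _ (SpQuot.left_w (tors h𝒳 ex hπ hA ξ) θ)

theorem hv_map {s t : Stk.EltObj B.obj} (φ : s ⟶ t) (a : x.obj t ⟶ ξ) :
    hv h𝒳 ex hπ hA θ (x.map φ ≫ a) = x.map φ ≫ hv h𝒳 ex hπ hA θ a := by
  let k : Over.mk (bOf s.sec) ⟶ Over.mk (bOf t.sec) := Over.homMk ((AlgSp.yon S).map φ.hom) (by
    show (AlgSp.yon S).map φ.hom ≫ bOf t.sec = bOf s.sec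
    rw [← φ.map_sec]
    exact bOf_map _ _)
  let φ' : ptEl (bOf s.sec) ⟶ ptEl (bOf t.sec) := psi s ≫ φ ≫ psi' t
  have hφ' : φ'.hom = φ.hom := by
    show 𝟙 _ ≫ φ.hom ≫ 𝟙 _ = φ.hom
    simp
  have hk : k.left = (AlgSp.yon S).map φ'.hom := by rw [hφ']; rfl
  have e : ptOfArr h𝒳 (x.map φ ≫ a) = k ≫ ptOfArr h𝒳 a := pt_ext (by
    rw [val_comp k _ φ' hk, val_ptOfArr, val_ptOfArr]
    show x.map (psi s) ≫ x.map φ ≫ a = x.map φ' ≫ x.map (psi t) ≫ a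
    rw [← Category.assoc, ← Category.assoc (x.map φ'), ← x.toFunctor.map_comp, ← x.toFunctor.map_comp]
    congr 2)
  rw [hv, hv, e, Category.assoc, val_comp k _ φ' hk]
  show x.map (psi' s) ≫ x.map φ' ≫ val (ptOfArr h𝒳 a ≫ θ.top) = x.map φ ≫ x.map (psi' t) ≫ _
  rw [← Category.assoc, ← Category.assoc (x.map φ), ← x.toFunctor.map_comp, ← x.toFunctor.map_comp]
  congr 2

theorem hv_smul {t : Stk.EltObj B.obj} (α : VAut (x.obj t)) (a : x.obj t ⟶ ξ) :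
    hv h𝒳 ex hπ hA θ (α.a.hom ≫ a) = α.a.hom ≫ hv h𝒳 ex hπ hA θ a := by
  let g : Over.mk (bOf t.sec) ⟶ AG h𝒳 hA := ofVal hA (tr h𝒳.1 x (psi t) α)
  have hg : val g = tr h𝒳.1 x (psi t) α := val_ofVal _
  have e : ptOfArr h𝒳 (α.a.hom ≫ a) = SpQuot.smul (hact h𝒳 hA ξ) g (ptOfArr h𝒳 a) := pt_ext (by
    rw [val_ptOfArr, val, fam_smul]
    show _ = (val g).a.hom ≫ val (ptOfArr h𝒳 a)
    rw [hg, val_ptOfArr, ← Category.assoc, ← tr_spec h𝒳.1 x (psi t) α, Category.assoc])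
  have e2 : SpQuot.smul (hact h𝒳 hA ξ) g (ptOfArr h𝒳 a) ≫ θ.top =
      SpQuot.smul (hact h𝒳 hA η) g (ptOfArr h𝒳 a ≫ θ.top) := SpQuot.top_smul (tors h𝒳 ex hπ hA ξ) θ g _
  rw [hv, hv, e, e2]
  show x.map (psi' t) ≫ fam (SpQuot.smul (hact h𝒳 hA η) g (ptOfArr h𝒳 a ≫ θ.top)) (univ t.base) = _
  rw [fam_smul]
  show x.map (psi' t) ≫ (val g).a.hom ≫ _ = α.a.hom ≫ x.map (psi' t) ≫ _
  rw [hg, ← Category.assoc, ← Category.assoc α.a.hom]
  congr 1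
  refine fibGrpd_ext h𝒳.1 (x.map (psi t)) ?_ ?_
  · rw [Functor.map_comp, Functor.map_comp, α.vert, VAut.vert, Category.id_comp, Category.comp_id]
  · rw [Category.assoc, tr_spec, ← Category.assoc, Category.assoc α.a.hom, ← x.toFunctor.map_comp,
      el_hom_ext (show (psi' t ≫ psi t).hom = (𝟙 t : t ⟶ t).hom from Category.id_comp _)]
    erw [x.toFunctor.map_id]
    rw [Category.comp_id, Category.id_comp]

theorem hv_arrow {s t : Stk.EltObj B.obj} (l : x.obj s ⟶ x.obj t) (a : x.obj t ⟶ ξ) :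
    hv h𝒳 ex hπ hA θ (l ≫ a) = l ≫ hv h𝒳 ex hπ hA θ a := by
  let φ : s ⟶ t := ⟨eqToHom (x.w_obj s).symm ≫ 𝒳.p.map l ≫ eqToHom (x.w_obj t), by
    rw [op_comp, op_comp, Functor.map_comp_apply, Functor.map_comp_apply]
    erw [← secOf_section ex t, secOf_compat π l, secOf_section ex s, ← Functor.map_comp_apply]
    rw [← op_comp, eqToHom_trans, eqToHom_refl, op_id]
    exact Functor.map_id_apply _ _ _⟩
  obtain ⟨r, ⟨hr1, hr2⟩, -⟩ := fibGrpd_fac h𝒳.1 (x.map φ) l (𝟙 _) (by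
    rw [Category.id_comp, based_map x]
    show _ ≫ (eqToHom _ ≫ 𝒳.p.map l ≫ eqToHom _) ≫ _ = _
    simp)
  haveI : IsIso (𝒳.p.map r) := by rw [hr1]; infer_instance
  haveI := fibGrpd_isIso h𝒳.1 r
  rw [← hr2, Category.assoc, show r = (VAut.mk (asIso r) hr1).a.hom from rfl, hv_smul, hv_map, ← Category.assoc]

theorem torsTop_eq (σ : ξ ⟶ η) (hσ : torsTop h𝒳 σ = θ.top) {t : Stk.EltObj B.obj} (a : x.obj t ⟶ ξ) :
    a ≫ σ = hv h𝒳 ex hπ hA θ a := by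
  rw [hv, ← hσ, val, fam_torsTop]
  show _ = x.map (psi' t) ≫ val (ptOfArr h𝒳 a) ≫ σ
  rw [val_ptOfArr, ← Category.assoc, ← Category.assoc, ← x.toFunctor.map_comp,
    el_hom_ext (show (psi' t ≫ psi t).hom = (𝟙 t : t ⟶ t).hom from Category.id_comp _)]
  erw [x.toFunctor.map_id]
  rw [Category.id_comp]

theorem existsUnique_preimage (e : 𝒳.p.obj ξ = 𝒳.p.obj η) (hθ : AlgSt.SpQuotObj.Hom.base θ = eqToHom e) :
    ∃! σ : ξ ⟶ η, 𝒳.p.map σ = eqToHom e ∧ torsMap h𝒳 ex hπ hA σ = θ := by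
  have hmem := arrSieve_mem h𝒳 ex hπ ξ
  have hsel : ∀ (z : 𝒳.obj) (ν : z ⟶ ξ), (arrSieve x ξ).arrows (𝒳.p.map ν ≫ eqToHom rfl) →
      ∃ v : z ⟶ η, ∀ {t : Stk.EltObj B.obj} (a : x.obj t ⟶ ξ) (l : z ⟶ x.obj t), l ≫ a = ν →
        v = l ≫ hv h𝒳 ex hπ hA θ a := by
    rintro z ν ⟨c, a₀, ha₀⟩
    obtain ⟨κ, ⟨hκ1, hκ2⟩, -⟩ := fibGrpd_fac h𝒳.1 a₀ ν (eqToHom (x.w_obj (el c)).symm) (by
      have := ha₀
      simp only [baseOf, eqToHom_refl, Category.comp_id] at this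
      exact this)
    haveI : IsIso (𝒳.p.map κ) := by rw [hκ1]; infer_instance
    haveI := fibGrpd_isIso h𝒳.1 κ
    refine ⟨κ ≫ hv h𝒳 ex hπ hA θ a₀, fun {t} a l hl => ?_⟩
    have e : a₀ = (inv κ ≫ l) ≫ a := by rw [Category.assoc, hl, ← hκ2, IsIso.inv_hom_id_assoc]
    rw [e, hv_arrow, ← Category.assoc, IsIso.hom_inv_id_assoc]
  choose v hvs using hsel
  have hsel' : ∀ (z : 𝒳.obj) (ν : z ⟶ ξ) (hν : (arrSieve x ξ).arrows (𝒳.p.map ν ≫ eqToHom rfl)),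
      ∃ (t : Stk.EltObj B.obj) (a : x.obj t ⟶ ξ) (l : z ⟶ x.obj t), l ≫ a = ν := by
    rintro z ν ⟨c, a₀, ha₀⟩
    obtain ⟨κ, ⟨-, hκ2⟩, -⟩ := fibGrpd_fac h𝒳.1 a₀ ν (eqToHom (x.w_obj (el c)).symm) (by
      have := ha₀
      simp only [baseOf, eqToHom_refl, Category.comp_id] at this
      exact this)
    exact ⟨_, a₀, κ, hκ2⟩
  obtain ⟨σ, ⟨hσ, hσv⟩, hσu⟩ := (isPrestackFor_iff_glue h𝒳.1 (arrSieve x ξ)).1
    ((isStack_isPrestack h𝒳).2 _ hmem) ξ η rfl e.symm v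
    (fun z ν hν => by
      obtain ⟨t, a, l, hl⟩ := hsel' z ν hν
      rw [hvs z ν hν a l hl, Functor.map_comp, map_of_baseOf x (hv h𝒳 ex hπ hA θ a), baseOf_hv, hθ,
        ← hl, Functor.map_comp, map_of_baseOf x a]
      simp only [Category.assoc])
    (fun z' z g ν hν hν' => by
      obtain ⟨t, a, l, hl⟩ := hsel' z ν hν
      rw [hvs z ν hν a l hl, hvs z' (g ≫ ν) hν' a (g ≫ l) (by rw [Category.assoc, hl]), Category.assoc])
  have hmem' : ∀ {t : Stk.EltObj B.obj} (a : x.obj t ⟶ ξ),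
      (arrSieve x ξ).arrows (𝒳.p.map a ≫ eqToHom rfl) := fun {t} a => by
    simp only [eqToHom_refl, Category.comp_id]
    rw [map_of_baseOf x a]
    exact (arrSieve x ξ).downward_closed ⟨t.sec, a, rfl⟩ _
  refine ⟨σ, ⟨hσ, AlgSt.SpQuotObj.hom_ext (hσ.trans hθ.symm) ?_⟩, fun σ' ⟨h1, h2⟩ => ?_⟩
  · refine SpQuot.over_hom_ext fun Z c k => pt_ext ?_
    show fam (k ≫ torsTop h𝒳 σ) (univ Z) = _
    rw [fam_torsTop]
    show val k ≫ σ = val (k ≫ θ.top)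
    rw [hσv _ _ (hmem' (val k)), hvs _ _ (hmem' (val k)) (val k) (𝟙 _) (Category.id_comp _), Category.id_comp,
      hv]
    let t := ptEl c
    have hc : bOf t.sec = c := by
      show ((AlgSp.J S).uliftYonedaEquiv.{u + 1}).symm (((AlgSp.J S).uliftYonedaEquiv.{u + 1}) c) = c
      exact Equiv.symm_apply_apply _ _
    let j : Over.mk (bOf t.sec) ⟶ Over.mk c := Over.homMk (𝟙 _) (by rw [Category.id_comp]; exact hc.symm)
    let φj : ptEl (bOf t.sec) ⟶ ptEl c := psi t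
    have hj : j.left = (AlgSp.yon S).map φj.hom := ((AlgSp.yon S).map_id _).symm
    have e1 : ptOfArr h𝒳 (val k) = j ≫ k := pt_ext (by rw [val_ptOfArr, val_comp j k φj hj]; rfl)
    rw [e1, Category.assoc, val_comp j _ φj hj]
    show x.map (psi' t) ≫ x.map φj ≫ val (k ≫ θ.top) = _
    rw [← Category.assoc, ← x.toFunctor.map_comp,
      el_hom_ext (show (psi' t ≫ φj).hom = (𝟙 t : t ⟶ t).hom from Category.id_comp _)]
    erw [x.toFunctor.map_id]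
    exact Category.id_comp _
  · refine hσu σ' ⟨h1, fun z ν hν => ?_⟩
    obtain ⟨t, a, l, hl⟩ := hsel' z ν hν
    rw [hvs z ν hν a l hl, ← hl, Category.assoc, torsTop_eq h𝒳 ex hπ hA θ σ' (congrArg (fun f => f.top) h2) a]

end Full

theorem isEquivOver_torsFun : IsEquivOver (torsFun h𝒳 ex hπ hA) := by
  haveI := fibGrpd_isFibered h𝒳.1
  have hQ := SpQuot.isStack (AG h𝒳 hA) (AlgSt.trivGAction (AG h𝒳 hA))
  obtain ⟨_, _⟩ := fullyFaithful_of_vert (torsFun h𝒳 ex hπ hA) (fun a b φ _ => hQ.1.isStronglyCartesian _)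
    fun a b e θ hθ => existsUnique_preimage h𝒳 ex hπ hA θ e hθ
  refine isEquivOver_of_locally_essSurj (AlgSp.J S) h𝒳 (isStack_isPrestack hQ) _ fun A => ?_
  let R : Sieve A.base :=
    { arrows := fun Z g => ∃ s : (AlgSp.yon S).obj Z ⟶ A.P.left, s ≫ A.π.left = (AlgSp.yon S).map g
      downward_closed := fun {Z Z'} g hg k => by
        obtain ⟨s, hs⟩ := hg
        exact ⟨(AlgSp.yon S).map k ≫ s, by rw [Category.assoc, hs, ← Functor.map_comp]⟩ }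
  have hR : R ∈ AlgSp.J S A.base := by
    obtain ⟨R', hR', hsec⟩ := A.loc
    rw [GrothendieckTopology.mem_over_iff]
    refine GrothendieckTopology.superset_covering _ ?_ (Precoverage.generate_mem_toGrothendieck hR')
    rintro Z g ⟨W, a, b, hb, rfl⟩
    refine (Sieve.overEquiv A.base R).downward_closed ?_ a
    rw [Sieve.overEquiv_iff]
    exact hsec b hb
  refine ⟨R, hR, fun V g hg => ?_⟩
  obtain ⟨s, hs⟩ := hg
  let u : (AlgSt.ofSp (𝟙_ (Over B)).left).obj :=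
    ⟨V, ((AlgSp.J S).uliftYonedaEquiv.{u + 1}) ((AlgSp.yon S).map g ≫ A.b)⟩
  have hu : bOf u.sec = (AlgSp.yon S).map g ≫ A.b := Equiv.symm_apply_apply _ _
  have htb : AlgSt.secYon u ≫ (𝟙_ (Over B)).hom = bOf u.sec := Category.comp_id _
  let tA : SpQuot.trivBase u ⟶ A.P := Over.homMk s (by
    show s ≫ A.P.hom = AlgSt.secYon u ≫ (𝟙_ (Over B)).hom
    rw [htb, hu, ← hs, Category.assoc]
    exact congrArg (s ≫ ·) (Over.w A.π).symm)
  let hA' := SpQuot.ptHom (K := Scheme.fppfPrecoverage) (aX := AlgSt.trivGAction (AG h𝒳 hA)) A tA g hs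
    (toUnit_unique _ _)
  let tX : SpQuot.trivBase u ⟶ (tors h𝒳 ex hπ hA (x.obj u)).P :=
    Over.homMk (ptOfArr h𝒳 (𝟙 (x.obj u))).left ((Over.w _).trans htb.symm)
  let hX := SpQuot.ptHom (K := Scheme.fppfPrecoverage) (aX := AlgSt.trivGAction (AG h𝒳 hA))
    (tors h𝒳 ex hπ hA (x.obj u)) tX (eqToHom (x.w_obj u).symm) (by
      refine (ptOfArr_piA h𝒳 ex (𝟙 (x.obj u))).trans (congrArg _ ?_)
      rw [baseOf, CategoryTheory.Functor.map_id, Category.comp_id])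
    (toUnit_unique _ _)
  haveI : IsIso (AlgSt.SpQuotObj.Hom.base hX) := by
    show IsIso (eqToHom (x.w_obj u).symm)
    infer_instance
  haveI := SpQuot.isIso_of_base hX
  refine ⟨x.obj u, inv hX ≫ hA', lift_mk _ (x.w_obj u) rfl ?_⟩
  rw [Functor.map_comp, Functor.map_inv]
  refine (IsIso.inv_comp_eq _).2 ?_
  show g = eqToHom (x.w_obj u).symm ≫ eqToHom (x.w_obj u) ≫ g ≫ eqToHom rfl
  simp

theorem torsFun_toBase :
    Nonempty (BasedFunctor.comp (torsFun h𝒳 ex hπ hA)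
      (W4stkstmgerbes.spQuotToBase Scheme.fppfPrecoverage (AG h𝒳 hA) (AlgSt.trivGAction (AG h𝒳 hA))) ≅ π) :=
  pshIso_of_secEq fun ξ => by
    show B.obj.map (eqToHom rfl).op ((bOf (secOf π ξ)).hom.app (op (𝒳.p.obj ξ)) (ULift.up (𝟙 _))) = secOf π ξ
    rw [bOf_app, eqToHom_refl, op_id]
    exact (Functor.map_id_apply _ _ _).trans (Functor.map_id_apply _ _ _)

end Tors

/-- A gerbe over an algebraic space with a section is the classifying stack of a group algebraic space. -/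
theorem exists_spBG_equiv (h𝒳 : AlgSt.IsAlgStack Scheme.fppfPrecoverage 𝒳) (U : AlgSp.Space S)
    (π : 𝒳 ⥤ᵇ AlgSt.ofSp U.obj) (hπ : Gerb.IsGerbeOver (AlgSp.J S) π) (x : AlgSt.ofSp U.obj ⥤ᵇ 𝒳)
    (ex : BasedFunctor.comp x π ≅ BasedFunctor.id (AlgSt.ofSp U.obj)) :
    ∃ (G : Over U.obj) (_ : GrpObj G),
      AlgSp.IsAlgSpace G.left ∧ AlgSp.LocP @Flat G.hom ∧ AlgSp.LocP @LocallyOfFinitePresentation G.hom ∧
      ∃ e : AlgSt.SpBG Scheme.fppfPrecoverage G ⥤ᵇ 𝒳, FibCat.IsEquivOver e ∧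
        Nonempty (BasedFunctor.comp e π ≅
          W4stkstmgerbes.spQuotToBase Scheme.fppfPrecoverage G (AlgSt.trivGAction G)) := by
  obtain ⟨hA, hG, h₁, h₂⟩ := autGrp_props h𝒳 U hπ x ex
  letI := grpObj (autGrp h𝒳.isStack.1 x) hA
  refine ⟨AG h𝒳.isStack hA, inferInstance, hG, h₁, h₂, ?_⟩
  obtain ⟨e, he, -, ⟨i⟩⟩ := exists_inverse (isEquivOver_torsFun h𝒳.isStack ex hπ hA)
  obtain ⟨j⟩ := torsFun_toBase h𝒳.isStack ex hπ hA
  exact ⟨e, he, ⟨(Stk.restr e _).mapIso j.symm ≪≫ (postB (AlgSt.SpBG Scheme.fppfPrecoverage (AG h𝒳.isStack hA))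
    (W4stkstmgerbes.spQuotToBase Scheme.fppfPrecoverage (AG h𝒳.isStack hA) (AlgSt.trivGAction (AG h𝒳.isStack hA)))).mapIso i⟩⟩

end Groth.Agent.Stk19b.Gerbe
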