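import Groth.Agent.Stk19.Gerbe
import Groth.Agent.Stk19.Elem
import Groth.Agent.Stk19.Stack
import Groth.Prelude.Def_StGerb2
import Mathlib.Algebra.Category.Grp.Limits
import Mathlib.CategoryTheory.Sites.Whiskering

/-!
# The band of a gerbe with commutative automorphism groups
-/

set_option autoImplicit false
set_option backward.isDefEq.respectTransparency false
set_option backward.isDefEq.respectTransparency.types false

universe v u

open CategoryTheory Opposite FibCat Groth.Agent.Desc19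

namespace Groth.Agent.Stk19b.Gerbe.AbBand

open Groth.Agent.Stk19

variable {C : Type u} [Category.{v} C] {𝒮 : BasedCategory.{v, max u v} C}

/-- The underlying arrow of an automorphism. -/
abbrev raw {x : 𝒮.obj} (a : Gerb.AutO x) : x ⟶ x := a.hom.1

theorem aut_ext {x : 𝒮.obj} {a b : Gerb.AutO x} (h : raw a = raw b) : a = b :=
  Aut.ext (Functor.Fiber.hom_ext h)

theorem raw_map {x : 𝒮.obj} (a : Gerb.AutO x) : 𝒮.p.map (raw a) = 𝟙 _ := by
  have : 𝒮.p.IsHomLift (𝟙 (𝒮.p.obj x)) (raw a) := a.hom.2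
  exact (map_eq_of_vert 𝒮.p (R := 𝒮.p.obj x) (raw a)).trans (eqToHom_refl _ _)

theorem raw_mul {x : 𝒮.obj} (a b : Gerb.AutO x) : raw (a * b) = raw b ≫ raw a := rfl

theorem raw_one (x : 𝒮.obj) : raw (1 : Gerb.AutO x) = 𝟙 x := rfl

theorem exists_aut (h : IsFibGrpd 𝒮.p) {x : 𝒮.obj} (χ : x ⟶ x) (hχ : 𝒮.p.map χ = 𝟙 _) :
    ∃ a : Gerb.AutO x, raw a = χ := by
  have hl : 𝒮.p.IsHomLift (𝟙 (𝒮.p.obj x)) χ := vert_of_map_eq 𝒮.p (hχ.trans (eqToHom_refl _ rfl).symm)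
  let χf : Gerb.fib x ⟶ Gerb.fib x := ⟨χ, hl⟩
  have : IsIso χf := (fibGrpd_iff.1 h).2 _ |>.all_isIso χf
  exact ⟨asIso χf, rfl⟩

theorem exists_pull (h : IsFibGrpd 𝒮.p) {z x : 𝒮.obj} (l : z ⟶ x) (a : Gerb.AutO x) :
    ∃ b : Gerb.AutO z, raw b ≫ l = l ≫ raw a := by
  obtain ⟨χ, ⟨h1, h2⟩, -⟩ := fibGrpd_fac h l (l ≫ raw a) (𝟙 _)
    (by rw [Functor.map_comp, raw_map, Category.id_comp, Category.comp_id])
  obtain ⟨b, hb⟩ := exists_aut h χ h1
  exact ⟨b, by rw [hb, h2]⟩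

theorem pull_unique (h : IsFibGrpd 𝒮.p) {z x : 𝒮.obj} (l : z ⟶ x) {a : Gerb.AutO x} {b b' : Gerb.AutO z}
    (h1 : raw b ≫ l = l ≫ raw a) (h2 : raw b' ≫ l = l ≫ raw a) : b = b' :=
  aut_ext (fibGrpd_ext h l ((raw_map b).trans (raw_map b').symm) (h1.trans h2.symm))

section Comm

variable (h : IsFibGrpd 𝒮.p) (hcomm : ∀ (x : 𝒮.obj) (a b : Gerb.AutO x), a * b = b * a)

include h hcomm in
/-- The pullback of an automorphism along an arrow depends only on the image of the arrow. -/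
theorem pull_eq {z x : 𝒮.obj} (l l' : z ⟶ x) (hl : 𝒮.p.map l = 𝒮.p.map l') {a : Gerb.AutO x} {b b' : Gerb.AutO z}
    (h1 : raw b ≫ l = l ≫ raw a) (h2 : raw b' ≫ l' = l' ≫ raw a) : b = b' := by
  obtain ⟨χ, ⟨hχ, hχ'⟩, -⟩ := fibGrpd_fac h l l' (𝟙 _) (by rw [Category.id_comp, hl])
  obtain ⟨c, rfl⟩ := exists_aut h χ hχ
  refine pull_unique h l' ?_ h2
  have hc : raw b ≫ raw c = raw c ≫ raw b := by rw [← raw_mul, ← raw_mul, hcomm]
  rw [← hχ', ← Category.assoc, hc, Category.assoc, h1, Category.assoc]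

end Comm

/-- The raw data of an element of the band over `U`. -/
abbrev Dat (𝒮 : BasedCategory.{v, max u v} C) (U : C) : Type (max u v) :=
  ∀ (y : 𝒮.obj), (𝒮.p.obj y ⟶ U) → Gerb.AutO y

/-- The elements of the band. -/
def bandSub (𝒮 : BasedCategory.{v, max u v} C) (U : C) : Subgroup (Dat 𝒮 U) where
  carrier := {α | ∀ ⦃y' y : 𝒮.obj⦄ (φ : y' ⟶ y) (f : 𝒮.p.obj y ⟶ U),
    raw (α y' (𝒮.p.map φ ≫ f)) ≫ φ = φ ≫ raw (α y f)}
  mul_mem' {α β} ha hb y' y φ f := by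
    show raw (α y' _ * β y' _) ≫ φ = φ ≫ raw (α y f * β y f)
    rw [raw_mul, raw_mul, Category.assoc, ha φ f, ← Category.assoc, hb φ f, Category.assoc]
  one_mem' y' y φ f := by
    show raw (1 : Gerb.AutO y') ≫ φ = φ ≫ raw (1 : Gerb.AutO y)
    rw [raw_one, raw_one, Category.id_comp, Category.comp_id]
  inv_mem' {α} ha y' y φ f := by
    show raw (α y' _)⁻¹ ≫ φ = φ ≫ raw (α y f)⁻¹
    have e : ∀ {w : 𝒮.obj} (a : Gerb.AutO w), raw a ≫ raw a⁻¹ = 𝟙 w := fun a => by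
      rw [← raw_mul, inv_mul_cancel, raw_one]
    have e' : ∀ {w : 𝒮.obj} (a : Gerb.AutO w), raw a⁻¹ ≫ raw a = 𝟙 w := fun a => by
      rw [← raw_mul, mul_inv_cancel, raw_one]
    calc raw (α y' _)⁻¹ ≫ φ = raw (α y' (𝒮.p.map φ ≫ f))⁻¹ ≫ φ ≫ raw (α y f) ≫ raw (α y f)⁻¹ := by
          rw [e, Category.comp_id]
      _ = φ ≫ raw (α y f)⁻¹ := by rw [← Category.assoc φ, ← ha φ f, Category.assoc, reassoc_of% (e' (α y' _))]

/-- Restriction. -/
def bandRes {V U : C} (k : V ⟶ U) : bandSub 𝒮 U →* bandSub 𝒮 V where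
  toFun α := ⟨fun y f => α.1 y (f ≫ k), fun y' y φ f => by
    show raw (α.1 y' ((𝒮.p.map φ ≫ f) ≫ k)) ≫ φ = φ ≫ raw (α.1 y (f ≫ k))
    rw [Category.assoc]
    exact α.2 φ _⟩
  map_one' := rfl
  map_mul' _ _ := rfl

variable (𝒮) in
/-- The band as a presheaf. -/
def band : Cᵒᵖ ⥤ GrpCat.{max u v} where
  obj U := GrpCat.of (bandSub 𝒮 U.unop)
  map k := GrpCat.ofHom (bandRes k.unop)
  map_id U := ConcreteCategory.hom_ext _ _ fun α => Subtype.ext (funext fun y => funext fun f =>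
    congrArg (α.1 y) (Category.comp_id f))
  map_comp k l := ConcreteCategory.hom_ext _ _ fun α => Subtype.ext (funext fun y => funext fun f =>
    congrArg (α.1 y) (Category.assoc f _ _).symm)

variable {J : GrothendieckTopology C}

theorem isSheaf_band (hst : Stk.IsStack J 𝒮) : Presheaf.IsSheaf J (band 𝒮) := by
  refine (Presheaf.isSheaf_iff_isSheaf_comp J (band 𝒮) (forget GrpCat.{max u v})).2 ?_
  rw [isSheaf_iff_isSheaf_of_type]
  intro U R hR fm hfm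
  rw [Presieve.compatible_iff_sieveCompatible] at hfm
  have hcompat : ∀ {V' V : C} (g : V' ⟶ V) (f : V ⟶ U) (hf : R f) (f' : V' ⟶ U) (hf' : R f') (_ : g ≫ f = f')
      (y : 𝒮.obj) (j : 𝒮.p.obj y ⟶ V'), (fm f' hf').1 y j = (fm f hf).1 y (j ≫ g) := by
    rintro V' V g f hf f' hf' rfl y j
    exact congrArg (fun α : bandSub 𝒮 V' => α.1 y j) (hfm f g hf)
  have hglue : ∀ (y : 𝒮.obj) (g : 𝒮.p.obj y ⟶ U), ∃! χ : y ⟶ y, 𝒮.p.map χ = 𝟙 _ ∧
      ∀ (z : 𝒮.obj) (ν : z ⟶ y) (hν : R (𝒮.p.map ν ≫ g)),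
        ν ≫ χ = raw ((fm _ hν).1 z (𝟙 _)) ≫ ν := by
    intro y g
    obtain ⟨χ, ⟨h1, h2⟩, hu⟩ := (isPrestackFor_iff_glue hst.1 (R.pullback g)).1
      ((isStack_isPrestack hst).2 _ (J.pullback_stable g hR)) y y rfl rfl
      (fun z ν hν => raw ((fm (𝒮.p.map ν ≫ g) (by simpa using hν)).1 z (𝟙 _)) ≫ ν)
      (fun z ν hν => by
        rw [Functor.map_comp, raw_map, Category.id_comp, eqToHom_refl, Category.comp_id])
      (fun z' z k ν hν hν' => by
        have hν₀ : R (𝒮.p.map ν ≫ g) := by simpa using hν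
        rw [hcompat (𝒮.p.map k) (𝒮.p.map ν ≫ g) hν₀ _ _ (by rw [Functor.map_comp, Category.assoc]) z' (𝟙 _),
          Category.id_comp, ← Category.assoc k]
        have := (fm _ hν₀).2 k (𝟙 _)
        rw [Category.comp_id] at this
        rw [← this, Category.assoc])
    refine ⟨χ, ⟨h1.trans (eqToHom_refl _ _), fun z ν hν => h2 z ν (by simpa using hν)⟩, fun χ' hχ' => hu χ'
      ⟨hχ'.1.trans (eqToHom_refl _ _).symm, fun z ν hν => hχ'.2 z ν (by simpa using hν)⟩⟩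
  choose X hX hXu using hglue
  have hA : ∀ y g, ∃ a : Gerb.AutO y, raw a = X y g := fun y g => exists_aut hst.1 _ (hX y g).1
  choose A hA using hA
  have hmem : A ∈ bandSub 𝒮 U := by
    intro y' y φ f
    obtain ⟨b, hb⟩ := exists_pull hst.1 φ (A y f)
    rw [← hb]
    congr 1
    rw [hA]
    refine (hXu y' _ _ ⟨raw_map b, fun z ν hν => fibGrpd_ext hst.1 φ ?_ ?_⟩).symm
    · rw [Functor.map_comp, Functor.map_comp, raw_map, raw_map, Category.comp_id, Category.id_comp]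
    · have hν' : R (𝒮.p.map (ν ≫ φ) ≫ f) := by rw [Functor.map_comp, Category.assoc]; exact hν
      rw [Category.assoc, hb, hA, ← Category.assoc, (hX y f).2 z (ν ≫ φ) hν',
        hcompat (𝟙 _) _ hν _ hν' (by rw [Category.id_comp, Functor.map_comp, Category.assoc]) z (𝟙 _),
        Category.id_comp, Category.assoc]
  refine ⟨⟨A, hmem⟩, fun V k hk => Subtype.ext (funext fun y => funext fun g => aut_ext ?_), fun B hB => ?_⟩
  · show raw (A y (g ≫ k)) = raw ((fm k hk).1 y g)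
    rw [hA]
    refine (hXu y _ _ ⟨raw_map _, fun z ν hν => ?_⟩).symm
    rw [← (fm k hk).2 ν g, hcompat (𝒮.p.map ν ≫ g) k hk _ hν (Category.assoc _ _ _) z (𝟙 _), Category.id_comp]
  · refine Subtype.ext (funext fun y => funext fun g => aut_ext ?_)
    show raw (B.1 y g) = raw (A y g)
    rw [hA]
    refine hXu y g _ ⟨raw_map _, fun z ν hν => ?_⟩
    rw [← B.2 ν g, ← congrArg (fun α : bandSub 𝒮 (𝒮.p.obj z) => α.1 z (𝟙 _)) (hB _ hν)]
    show _ = raw (B.1 z (𝟙 _ ≫ 𝒮.p.map ν ≫ g)) ≫ ν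
    rw [Category.id_comp]

theorem band_comm (hcomm : ∀ (x : 𝒮.obj) (a b : Gerb.AutO x), a * b = b * a) (U : C)
    (a b : (band 𝒮).obj (op U)) : a * b = b * a :=
  Subtype.ext (funext fun y => funext fun f => hcomm y _ _)

/-- Evaluation at an object. -/
def bandEv (x : 𝒮.obj) : bandSub 𝒮 (𝒮.p.obj x) →* Gerb.AutO x where
  toFun α := α.1 x (𝟙 _)
  map_one' := rfl
  map_mul' _ _ := rfl

theorem bandEv_bijective (h𝒮 : Gerb.IsGerbe J 𝒮) (hcomm : ∀ (x : 𝒮.obj) (a b : Gerb.AutO x), a * b = b * a)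
    (x : 𝒮.obj) : Function.Bijective (bandEv x) := by
  obtain ⟨hst, hger⟩ := h𝒮
  -- the local arrows to `x`
  let loc : ∀ (y : 𝒮.obj) (_ : 𝒮.p.obj y ⟶ 𝒮.p.obj x), Sieve (𝒮.p.obj y) := fun y f =>
    { arrows := fun V g => ∃ (z : 𝒮.obj) (e : 𝒮.p.obj z = V) (κ : z ⟶ y) (l : z ⟶ x),
        𝒮.p.map κ = eqToHom e ≫ g ∧ 𝒮.p.map l = eqToHom e ≫ g ≫ f
      downward_closed := fun {V V'} g hg k => by
        obtain ⟨z, e, κ, l, hκ, hl⟩ := hg
        obtain ⟨z', j, e', hj⟩ := fibGrpd_lift hst.1 z (k ≫ eqToHom e.symm)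
        exact ⟨z', e', j ≫ κ, j ≫ l, by simp [hκ, hj], by simp [hl, hj]⟩ }
  have hloc : ∀ y f, loc y f ∈ J (𝒮.p.obj y) := fun y f => by
    obtain ⟨w, m, ew, hm⟩ := fibGrpd_lift hst.1 x f
    obtain ⟨R, hR, hx⟩ := hger.2 y w (eqToHom ew.symm : 𝒮.p.obj y ⟶ 𝒮.p.obj w)
      ((vert_iff _ _).2 ⟨rfl, ew.symm, rfl⟩)
    refine J.superset_covering (fun V g hg => ?_) hR
    obtain ⟨z, φ, ψ, hφ, hψ, e⟩ := hx g hg
    obtain ⟨ez, hφm⟩ := lift_spec _ hφ
    refine ⟨z, ez, φ, ψ ≫ m, hφm, ?_⟩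
    have e' : 𝒮.p.map φ ≫ eqToHom ew.symm = 𝒮.p.map ψ := e
    rw [Functor.map_comp, ← e', hφm, hm]
    simp
  have hspec : ∀ (a : Gerb.AutO x) (y : 𝒮.obj) (f : 𝒮.p.obj y ⟶ 𝒮.p.obj x), ∃! χ : y ⟶ y, 𝒮.p.map χ = 𝟙 _ ∧
      ∀ (z : 𝒮.obj) (ν : z ⟶ y) (l : z ⟶ x) (_ : 𝒮.p.map l = 𝒮.p.map ν ≫ f) (b : Gerb.AutO z),
        raw b ≫ l = l ≫ raw a → raw b ≫ ν = ν ≫ χ := by
    intro a y f
    have hsel : ∀ (z : 𝒮.obj) (ν : z ⟶ y), (loc y f).arrows (𝒮.p.map ν ≫ eqToHom rfl) →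
        ∃ (l : z ⟶ x) (b : Gerb.AutO z), 𝒮.p.map l = 𝒮.p.map ν ≫ f ∧ raw b ≫ l = l ≫ raw a := by
      rintro z ν ⟨z', e, κ, l, hκ, hl⟩
      rw [eqToHom_refl, Category.comp_id] at hκ hl
      obtain ⟨j, ⟨hj, -⟩, -⟩ := fibGrpd_fac hst.1 κ ν (eqToHom e.symm) (by rw [hκ]; simp)
      obtain ⟨b, hb⟩ := exists_pull hst.1 (j ≫ l) a
      exact ⟨j ≫ l, b, by rw [Functor.map_comp, hj, hl]; simp, hb⟩
    choose l b hl hb using hsel
    obtain ⟨χ, ⟨h1, h2⟩, hu⟩ := (isPrestackFor_iff_glue hst.1 (loc y f)).1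
      ((isStack_isPrestack hst).2 _ (hloc y f)) y y rfl rfl (fun z ν hν => raw (b z ν hν) ≫ ν)
      (fun z ν hν => by rw [Functor.map_comp, raw_map, Category.id_comp, eqToHom_refl, Category.comp_id])
      (fun z' z k ν hν hν' => by
        rw [← Category.assoc k, ← Category.assoc (raw _) k]
        congr 1
        obtain ⟨c, hc⟩ := exists_pull hst.1 k (b z ν hν)
        rw [← hc]
        congr 1
        refine congrArg raw (pull_eq hst.1 hcomm (l z' (k ≫ ν) hν') (k ≫ l z ν hν) ?_ (hb z' (k ≫ ν) hν') ?_)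
        · rw [hl, Functor.map_comp, Functor.map_comp, hl, Category.assoc]
        · rw [← Category.assoc, hc, Category.assoc, hb, ← Category.assoc])
    refine ⟨χ, ⟨h1.trans (eqToHom_refl _ _), fun z ν l' hl' b' hb' => ?_⟩, fun χ' hχ' => hu χ'
      ⟨hχ'.1.trans (eqToHom_refl _ _).symm, fun z ν hν => (hχ'.2 z ν _ (hl z ν hν) _ (hb z ν hν)).symm⟩⟩
    have hν : (loc y f).arrows (𝒮.p.map ν ≫ eqToHom rfl) := by
      rw [eqToHom_refl, Category.comp_id]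
      exact ⟨z, rfl, ν, l', by simp, by simp [hl']⟩
    rw [h2 z ν hν, pull_eq hst.1 hcomm (l z ν hν) l' ((hl z ν hν).trans hl'.symm) (hb z ν hν) hb']
  choose X hX hXu using hspec
  constructor
  · intro α β hαβ
    have hαβ' : α.1 x (𝟙 _) = β.1 x (𝟙 _) := hαβ
    have key : ∀ γ : bandSub 𝒮 (𝒮.p.obj x), ∀ y f, raw (γ.1 y f) = X (γ.1 x (𝟙 _)) y f := fun γ y f => by
      refine hXu _ y f _ ⟨raw_map _, fun z ν l hl b hb => ?_⟩
      have h1 := γ.2 l (𝟙 _)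
      rw [Category.comp_id] at h1
      rw [pull_unique hst.1 l hb h1, hl, γ.2 ν f]
    exact Subtype.ext (funext fun y => funext fun f => aut_ext (by rw [key α, key β, hαβ']))
  · intro a
    have hA : ∀ y f, ∃ c : Gerb.AutO y, raw c = X a y f := fun y f => exists_aut hst.1 _ (hX a y f).1
    choose A hA using hA
    have hmem : A ∈ bandSub 𝒮 (𝒮.p.obj x) := by
      intro y' y φ f
      obtain ⟨c, hc⟩ := exists_pull hst.1 φ (A y f)
      rw [← hc]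
      congr 1
      rw [hA]
      refine (hXu a y' _ _ ⟨raw_map c, fun z ν l hl b hb => fibGrpd_ext hst.1 φ ?_ ?_⟩).symm
      · rw [Functor.map_comp, Functor.map_comp, raw_map, raw_map, Category.comp_id, Category.id_comp]
      · rw [Category.assoc, (hX a y f).2 z (ν ≫ φ) l (by rw [hl, Functor.map_comp, Category.assoc]) b hb,
          Category.assoc, Category.assoc, hc, hA]
    refine ⟨⟨A, hmem⟩, aut_ext ?_⟩
    show raw (A x (𝟙 _)) = raw a
    rw [hA]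
    refine (hXu a x _ _ ⟨raw_map a, fun z ν l hl b hb => ?_⟩).symm
    obtain ⟨c, hc⟩ := exists_pull hst.1 ν a
    rw [pull_eq hst.1 hcomm l ν (hl.trans (Category.comp_id _)) hb hc, hc]

/-- A gerbe with commutative automorphism groups is banded by a sheaf of commutative groups. -/
theorem exists_banding (h𝒮 : Gerb.IsGerbe J 𝒮) (hcomm : ∀ (x : 𝒮.obj) (a b : Gerb.AutO x), a * b = b * a) :
    ∃ G : Sheaf J GrpCat.{max u v}, (∀ (U : C) (a b : G.obj.obj (op U)), a * b = b * a) ∧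
      Nonempty (Gerb.Banding 𝒮 G.obj) := by
  refine ⟨⟨band 𝒮, isSheaf_band h𝒮.1⟩, fun U a b => band_comm hcomm U a b,
    ⟨{ iso := fun x => MulEquiv.ofBijective (bandEv x) (bandEv_bijective h𝒮 hcomm x), natural := ?_ }⟩⟩
  intro x' x φ a
  show raw (a.1 x' (𝟙 _ ≫ 𝒮.p.map φ)) ≫ φ = φ ≫ raw (a.1 x (𝟙 _))
  rw [Category.id_comp, ← a.2 φ (𝟙 _), Category.comp_id]

end Groth.Agent.Stk19b.Gerbe.AbBand
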