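import Groth.Agent.Stk19b.SpQuot.Charts
import Groth.Agent.Stk19.AlgSt.Sp

/-!
# Sheaves over a sheaf from presheaves on its category of elements

A presheaf `H` on the category of elements of a sheaf `B` gives the presheaf `Z ↦ Σ c, H (Z, c)` over `B`; when that is
a sheaf, maps into it over `B` are compatible families of elements of `H`.
-/

set_option autoImplicit false
set_option backward.isDefEq.respectTransparency false
set_option backward.isDefEq.respectTransparency.types false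

universe u

open CategoryTheory AlgebraicGeometry Opposite
open AlgSp

namespace Groth.Agent.Stk19b.Gerbe.Elts

variable {S : Scheme.{u}} {B : Sp S}

/-- An element. -/
abbrev el {Z : Over S} (c : B.obj.obj (op Z)) : Stk.EltObj B.obj := ⟨Z, c⟩

theorem el_hom_ext {a b : Stk.EltObj B.obj} {f g : a ⟶ b} (h : f.hom = g.hom) : f = g := Stk.EltObj.hom_ext h

variable {H H' : (Stk.EltObj B.obj)ᵒᵖ ⥤ Type u}

theorem sigma_ext {Z : Over S} {p q : Σ c : B.obj.obj (op Z), H.obj (op (el c))} (φ : el p.1 ⟶ el q.1)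
    (hφ : φ.hom = 𝟙 Z) (h : H.map φ.op q.2 = p.2) : p = q := by
  obtain ⟨c, a⟩ := p
  obtain ⟨c', a'⟩ := q
  obtain rfl : c' = c := by
    have := φ.map_sec
    rw [hφ] at this
    simpa using this
  obtain rfl : φ = 𝟙 _ := el_hom_ext hφ
  simp only [op_id, Functor.map_id_apply] at h
  rw [h]

variable (H) in
/-- The presheaf over `B` of a presheaf on the elements of `B`. -/
def totPsh : (Over S)ᵒᵖ ⥤ Type (u + 1) where
  obj Z := Σ c : B.obj.obj Z, H.obj (op (el (Z := Z.unop) c))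
  map {Z Z'} f := ↾fun p => ⟨B.obj.map f p.1,
    H.map (Quiver.Hom.op (⟨f.unop, rfl⟩ : el (Z := Z'.unop) (B.obj.map f p.1) ⟶ el (Z := Z.unop) p.1)) p.2⟩
  map_id Z := by
    refine ConcreteCategory.hom_ext _ _ fun p => ?_
    exact sigma_ext (Z := Z.unop) ⟨𝟙 _, rfl⟩ rfl rfl
  map_comp {Z Z' Z''} f g := by
    refine ConcreteCategory.hom_ext _ _ fun p => ?_
    refine sigma_ext (Z := Z''.unop) ⟨𝟙 _, by simp⟩ rfl ?_
    erw [← Functor.map_comp_apply, ← Functor.map_comp_apply]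
    rw [← op_comp, ← op_comp]
    congr 3

theorem map_eq {Z' Z : Over S} {k : Z' ⟶ Z} {p : (totPsh H).obj (op Z)} {q : (totPsh H).obj (op Z')}
    (h : (totPsh H).map k.op p = q) (φ : el q.1 ⟶ el p.1) (hφ : φ.hom = k) : H.map φ.op p.2 = q.2 := by
  subst h
  obtain rfl : φ = ⟨k, rfl⟩ := el_hom_ext hφ
  rfl

theorem map_mk {Z' Z : Over S} {k : Z' ⟶ Z} {p : (totPsh H).obj (op Z)} {q : (totPsh H).obj (op Z')}
    (φ : el q.1 ⟶ el p.1) (hφ : φ.hom = k) (h : H.map φ.op p.2 = q.2) : (totPsh H).map k.op p = q := by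
  subst hφ
  refine (sigma_ext (Z := Z') (p := q) (q := (totPsh H).map φ.hom.op p) ⟨𝟙 _, ?_⟩ rfl ?_).symm
  · show B.obj.map (𝟙 Z').op (B.obj.map φ.hom.op p.1) = q.1
    rw [op_id, Functor.map_id_apply]
    exact φ.map_sec
  erw [← Functor.map_comp_apply]
  rw [← h, ← op_comp]
  congr 3

variable (H) in
/-- The projection to `B`. -/
def proj : totPsh H ⟶ B.obj where
  app Z := ↾Sigma.fst
  naturality Z Z' f := by
    ext p
    rfl

variable {hH : Presheaf.IsSheaf (J S) (totPsh H)} {hH' : Presheaf.IsSheaf (J S) (totPsh H')}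

variable (H hH) in
/-- The sheaf over `B`. -/
abbrev ov : Over B := Over.mk (Y := (⟨totPsh H, hH⟩ : Sp S)) (⟨proj H⟩ : (⟨totPsh H, hH⟩ : Sp S) ⟶ B)

/-- The functor of elements of an object over `B`. -/
abbrev hY (Y : Over B) : AlgSt.ofSp Y.left ⥤ᵇ AlgSt.ofSp B := AlgSt.ofSpMap Y.hom

variable {Y Y' : Over B}

theorem fst_eq (f : Y ⟶ ov H hH) (t : Stk.EltObj Y.left.obj) :
    (f.left.hom.app (op t.base) t.sec).1 = Y.hom.hom.app (op t.base) t.sec :=
  congrArg (fun m : Y.left ⟶ B => m.hom.app (op t.base) t.sec) (Over.w f)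

/-- The comparison of the elements. -/
def tY (f : Y ⟶ ov H hH) (t : Stk.EltObj Y.left.obj) :
    (hY Y).obj t ⟶ el (f.left.hom.app (op t.base) t.sec).1 :=
  ⟨𝟙 t.base, by
    show B.obj.map (𝟙 t.base).op _ = Y.hom.hom.app (op t.base) t.sec
    rw [op_id, Functor.map_id_apply]
    exact fst_eq f t⟩

@[simp] theorem tY_hom (f : Y ⟶ ov H hH) (t : Stk.EltObj Y.left.obj) : (tY f t).hom = 𝟙 t.base := rfl

/-- The family of a map over `B`. -/
def fam (f : Y ⟶ ov H hH) (t : Stk.EltObj Y.left.obj) : H.obj (op ((hY Y).obj t)) :=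
  H.map (tY f t).op (f.left.hom.app (op t.base) t.sec).2

theorem fam_nat (f : Y ⟶ ov H hH) {t' t : Stk.EltObj Y.left.obj} (φ : t' ⟶ t) :
    H.map ((hY Y).map φ).op (fam f t) = fam f t' := by
  have hn : (totPsh H).map φ.hom.op (f.left.hom.app (op t.base) t.sec) = f.left.hom.app (op t'.base) t'.sec := by
    rw [← φ.map_sec]
    exact (NatTrans.naturality_apply f.left.hom φ.hom.op t.sec).symm
  let ψ : el (f.left.hom.app (op t'.base) t'.sec).1 ⟶ el (f.left.hom.app (op t.base) t.sec).1 :=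
    ⟨φ.hom, congrArg Sigma.fst hn⟩
  rw [fam, fam, ← map_eq hn ψ rfl]
  erw [← Functor.map_comp_apply, ← Functor.map_comp_apply]
  rw [← op_comp, ← op_comp]
  congr 3

theorem hom_ext {f g : Y ⟶ ov H hH} (h : ∀ t, fam f t = fam g t) : f = g := by
  apply Over.OverMorphism.ext
  apply ObjectProperty.hom_ext
  ext T y
  obtain ⟨Z⟩ := T
  let t : Stk.EltObj Y.left.obj := ⟨Z, y⟩
  let ψ : el (f.left.hom.app (op t.base) t.sec).1 ⟶ (hY Y).obj t := ⟨𝟙 Z, by
    show B.obj.map (𝟙 Z).op (Y.hom.hom.app (op Z) y) = _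
    rw [op_id, Functor.map_id_apply]
    exact (fst_eq f t).symm⟩
  refine sigma_ext (Z := Z) (p := f.left.hom.app (op t.base) t.sec) (q := g.left.hom.app (op t.base) t.sec)
    (ψ ≫ tY g t) (Category.id_comp _) ?_
  rw [op_comp, Functor.map_comp_apply, ← fam, ← h, fam, ← Functor.map_comp_apply, ← op_comp,
    el_hom_ext (show (ψ ≫ tY f t).hom = (𝟙 (el _) : el _ ⟶ el _).hom from Category.id_comp _), op_id,
    Functor.map_id_apply]

section HomOfFam

variable (hH) (α : ∀ t : Stk.EltObj Y.left.obj, H.obj (op ((hY Y).obj t)))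
  (hα : ∀ {t' t : Stk.EltObj Y.left.obj} (φ : t' ⟶ t), H.map ((hY Y).map φ).op (α t) = α t')

/-- The presheaf map of a family. -/
def pshOfFam : Y.left.obj ⟶ totPsh H where
  app Z := ↾fun y => ⟨Y.hom.hom.app Z y, α ⟨Z.unop, y⟩⟩
  naturality Z Z' f := by
    ext y
    let φ : (⟨Z'.unop, Y.left.obj.map f y⟩ : Stk.EltObj Y.left.obj) ⟶ ⟨Z.unop, y⟩ := ⟨f.unop, rfl⟩
    exact (map_mk (p := ⟨Y.hom.hom.app Z y, α ⟨Z.unop, y⟩⟩)
      (q := ⟨Y.hom.hom.app Z' (Y.left.obj.map f y), α ⟨Z'.unop, Y.left.obj.map f y⟩⟩)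
      ((hY Y).map φ) rfl (hα φ)).symm

/-- The map of a compatible family. -/
def homOfFam : Y ⟶ ov H hH :=
  Over.homMk (⟨pshOfFam α hα⟩ : Y.left ⟶ (⟨totPsh H, hH⟩ : Sp S)) (by
    apply ObjectProperty.hom_ext
    ext T y
    rfl)

theorem fam_homOfFam (t : Stk.EltObj Y.left.obj) : fam (homOfFam hH α hα) t = α t := by
  rw [fam, el_hom_ext (show (tY (homOfFam hH α hα) t).hom = (𝟙 ((hY Y).obj t) : _ ⟶ _).hom from rfl)]
  exact Functor.map_id_apply H _ _

end HomOfFam

/-- The comparison of elements along a map over `B`. -/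
def tC (k : Y' ⟶ Y) (t : Stk.EltObj Y'.left.obj) :
    (hY Y').obj t ⟶ (hY Y).obj ((AlgSt.ofSpMap k.left).obj t) :=
  ⟨𝟙 t.base, by
    show B.obj.map (𝟙 t.base).op (Y.hom.hom.app _ (k.left.hom.app _ t.sec)) = Y'.hom.hom.app (op t.base) t.sec
    rw [op_id, Functor.map_id_apply]
    exact congrArg (fun m : Y'.left ⟶ B => m.hom.app (op t.base) t.sec) (Over.w k)⟩

theorem fam_comp (k : Y' ⟶ Y) (f : Y ⟶ ov H hH) (t : Stk.EltObj Y'.left.obj) :
    fam (k ≫ f) t = H.map (tC k t).op (fam f ((AlgSt.ofSpMap k.left).obj t)) := by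
  rw [fam, fam]
  erw [← Functor.map_comp_apply]
  rw [← op_comp]
  congr 3

/-- A natural transformation gives a map over `B`. -/
def mapH (η : H ⟶ H') : ov H hH ⟶ ov H' hH' :=
  homOfFam hH' (fun t => η.app _ (fam (𝟙 (ov H hH)) t)) fun {t' t} φ => by
    rw [← NatTrans.naturality_apply, fam_nat]

theorem fam_mapH (η : H ⟶ H') (k : Y ⟶ ov H hH) (t : Stk.EltObj Y.left.obj) :
    fam (k ≫ mapH (hH' := hH') η) t = η.app _ (fam k t) := by
  rw [fam_comp, mapH, fam_homOfFam, ← NatTrans.naturality_apply, ← fam_comp, Category.comp_id]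
  exact fun φ => by rw [← NatTrans.naturality_apply, fam_nat]

section Point

variable {Z : Over S} {c : (yon S).obj Z ⟶ B}

/-- The universal element of a representable. -/
abbrev univ (Z : Over S) : Stk.EltObj ((yon S).obj Z).obj := ⟨Z, ULift.up (𝟙 Z)⟩

/-- The map to the universal element. -/
def toUniv (t : Stk.EltObj ((yon S).obj Z).obj) : t ⟶ univ Z :=
  ⟨t.sec.down, ULift.ext _ _ (Category.comp_id t.sec.down)⟩

theorem toUniv_uniq {t : Stk.EltObj ((yon S).obj Z).obj} (φ : t ⟶ univ Z) : φ = toUniv t :=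
  el_hom_ext ((Category.comp_id _).symm.trans (congrArg ULift.down φ.map_sec))

variable (c) in
/-- The element of a point. -/
abbrev ptEl : Stk.EltObj B.obj := (hY (Over.mk c)).obj (univ Z)

/-- The value of a point. -/
def val (p : Over.mk c ⟶ ov H hH) : H.obj (op (ptEl c)) := fam p (univ Z)

theorem pt_ext {p q : Over.mk c ⟶ ov H hH} (h : val p = val q) : p = q :=
  hom_ext fun t => by
    rw [← fam_nat p (toUniv t), ← fam_nat q (toUniv t)]
    exact congrArg _ h

variable (hH) in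
/-- The point of a value. -/
def ofVal (v : H.obj (op (ptEl c))) : Over.mk c ⟶ ov H hH :=
  homOfFam hH (fun t => H.map ((hY (Over.mk c)).map (toUniv t)).op v) fun {t' t} φ => by
    erw [← Functor.map_comp_apply, ← op_comp]
    rw [← (hY (Over.mk c)).toFunctor.map_comp, toUniv_uniq (φ ≫ toUniv t)]

theorem val_ofVal (v : H.obj (op (ptEl c))) : val (ofVal hH v) = v := by
  rw [val, ofVal, fam_homOfFam]
  · rw [← toUniv_uniq (𝟙 (univ Z)), CategoryTheory.Functor.map_id]
    exact Functor.map_id_apply H _ _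
  · intro t' t φ
    erw [← Functor.map_comp_apply, ← op_comp]
    rw [← (hY (Over.mk c)).toFunctor.map_comp, toUniv_uniq (φ ≫ toUniv t)]

end Point

end Groth.Agent.Stk19b.Gerbe.Elts
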