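import Groth.Agent.Stk19b.Gerbe.Elts
import Groth.Prelude.Def_AlgSpGpd
import Mathlib.CategoryTheory.Monoidal.Cartesian.Grp

/-!
# Group objects over a sheaf from presheaves of groups on its category of elements, and their actions
-/

set_option autoImplicit false
set_option backward.isDefEq.respectTransparency false
set_option backward.isDefEq.respectTransparency.types false

universe u

open CategoryTheory AlgebraicGeometry Opposite MonoidalCategory CartesianMonoidalCategory
open AlgSp

namespace Groth.Agent.Stk19b.Gerbe.Elts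

variable {S : Scheme.{u}} {B : Sp S} (A : (Stk.EltObj B.obj)ᵒᵖ ⥤ GrpCat.{u})

/-- The underlying presheaf of sets. -/
abbrev uA : (Stk.EltObj B.obj)ᵒᵖ ⥤ Type u := A ⋙ forget GrpCat.{u}

/-- The compatible families. -/
def famSub (Y : Over B) : Subgroup (∀ t : Stk.EltObj Y.left.obj, A.obj (op ((hY Y).obj t))) where
  carrier := {α | ∀ ⦃t' t : Stk.EltObj Y.left.obj⦄ (φ : t' ⟶ t), A.map ((hY Y).map φ).op (α t) = α t'}
  mul_mem' {α β} ha hb t' t φ := by
    show A.map _ (α t * β t) = α t' * β t'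
    rw [map_mul, ha φ, hb φ]
  one_mem' t' t φ := map_one _
  inv_mem' {α} ha t' t φ := by
    show A.map _ (α t)⁻¹ = (α t')⁻¹
    rw [map_inv, ha φ]

/-- Restriction of families along a map over `B`. -/
def famRes {Y' Y : Over B} (k : Y' ⟶ Y) : famSub A Y →* famSub A Y' where
  toFun α := ⟨fun t => A.map (tC k t).op (α.1 ((AlgSt.ofSpMap k.left).obj t)), fun t' t φ => by
    show A.map _ (A.map _ (α.1 _)) = A.map _ (α.1 _)
    rw [← α.2 ((AlgSt.ofSpMap k.left).map φ), ← ConcreteCategory.comp_apply, ← ConcreteCategory.comp_apply,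
      ← A.map_comp, ← A.map_comp, ← op_comp, ← op_comp]
    congr 4⟩
  map_one' := Subtype.ext (funext fun t => map_one _)
  map_mul' α β := Subtype.ext (funext fun t => map_mul _ _ _)

/-- The presheaf of groups of families. -/
def famGrp : (Over B)ᵒᵖ ⥤ GrpCat.{u + 1} where
  obj Y := GrpCat.of (famSub A Y.unop)
  map k := GrpCat.ofHom (famRes A k.unop)
  map_id Y := by
    refine ConcreteCategory.hom_ext _ _ fun α => Subtype.ext (funext fun t => ?_)
    show A.map (tC (𝟙 Y.unop) t).op (α.1 t) = α.1 t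
    rw [el_hom_ext (show (tC (𝟙 Y.unop) t).hom = (𝟙 ((hY Y.unop).obj t) : _ ⟶ _).hom from rfl)]
    exact ConcreteCategory.congr_hom (A.map_id _) _
  map_comp {Y Y' Y''} k l := by
    refine ConcreteCategory.hom_ext _ _ fun α => Subtype.ext (funext fun t => ?_)
    show A.map _ (α.1 _) = A.map _ (A.map _ (α.1 _))
    rw [← ConcreteCategory.comp_apply, ← A.map_comp, ← op_comp]
    congr 4

variable (hA : Presheaf.IsSheaf (J S) (totPsh (uA A)))

/-- Maps into the sheaf are compatible families. -/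
def famEquiv (Y : Over B) : (Y ⟶ ov (uA A) hA) ≃ famSub A Y where
  toFun f := ⟨fun t => fam f t, fun _ _ φ => fam_nat f φ⟩
  invFun α := homOfFam hA α.1 fun φ => α.2 φ
  left_inv f := hom_ext fun t => fam_homOfFam hA _ (fun φ => fam_nat f φ) t
  right_inv α := Subtype.ext (funext fun t => fam_homOfFam hA α.1 (fun φ => α.2 φ) t)

/-- The representation. -/
def famRep : (famGrp A ⋙ forget GrpCat).RepresentableBy (ov (uA A) hA) where
  homEquiv {Y} := famEquiv A hA Y
  homEquiv_comp {Y Y'} k f := Subtype.ext (funext fun t => fam_comp k f t)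

/-- The group object. -/
@[instance_reducible]
noncomputable def grpObj : GrpObj (ov (uA A) hA) := GrpObj.ofRepresentableBy _ (famGrp A) (famRep A hA)

section Ops

open MonObj

attribute [local instance] grpObj

theorem fam_mul {Y : Over B} (f g : Y ⟶ ov (uA A) hA) (t : Stk.EltObj Y.left.obj) :
    fam (f * g) t = (fam f t * fam g t : A.obj (op ((hY Y).obj t))) := by
  rw [Hom.mul_def]
  show (famEquiv A hA Y (lift f g ≫ (famEquiv A hA _).symm
    (famEquiv A hA _ (fst (ov (uA A) hA) (ov (uA A) hA)) * famEquiv A hA _ (snd (ov (uA A) hA) (ov (uA A) hA))))).1 t = _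
  refine (congrArg (fun α : famSub A Y => α.1 t)
    ((famRep A hA).homEquiv_comp (lift f g) _)).trans ?_
  show (famRes A (lift f g) ((famEquiv A hA _) ((famEquiv A hA _).symm _))).1 t = _
  rw [Equiv.apply_symm_apply, map_mul]
  have e1 := (famRep A hA).homEquiv_comp (lift f g) (fst (ov (uA A) hA) (ov (uA A) hA))
  have e2 := (famRep A hA).homEquiv_comp (lift f g) (snd (ov (uA A) hA) (ov (uA A) hA))
  rw [lift_fst] at e1
  rw [lift_snd] at e2
  exact congrArg₂ (fun a b : famSub A Y => a.1 t * b.1 t) e1.symm e2.symm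

theorem fam_one {Y : Over B} (t : Stk.EltObj Y.left.obj) :
    fam (1 : Y ⟶ ov (uA A) hA) t = (1 : A.obj (op ((hY Y).obj t))) := by
  rw [Hom.one_def]
  show (famEquiv A hA Y (toUnit Y ≫ (famEquiv A hA _).symm 1)).1 t = _
  refine (congrArg (fun α : famSub A Y => α.1 t) ((famRep A hA).homEquiv_comp (toUnit Y) _)).trans ?_
  show (famRes A (toUnit Y) ((famEquiv A hA _) ((famEquiv A hA _).symm _))).1 t = _
  rw [Equiv.apply_symm_apply, map_one]
  rfl

section Action

variable {A hA} {H : (Stk.EltObj B.obj)ᵒᵖ ⥤ Type u} (hH : Presheaf.IsSheaf (J S) (totPsh H))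
  (a : ∀ u : (Stk.EltObj B.obj)ᵒᵖ, A.obj u → H.obj u → H.obj u)
  (ha : ∀ {u v : (Stk.EltObj B.obj)ᵒᵖ} (φ : u ⟶ v) (g : A.obj u) (p : H.obj u),
    H.map φ (a u g p) = a v (A.map φ g) (H.map φ p))

/-- The action map. -/
noncomputable def actMap : ov (uA A) hA ⊗ ov H hH ⟶ ov H hH :=
  homOfFam hH (fun t => a _ (fam (fst (ov (uA A) hA) (ov H hH)) t) (fam (snd (ov (uA A) hA) (ov H hH)) t))
    fun {t' t} φ => by
      rw [ha]
      erw [fam_nat (fst (ov (uA A) hA) (ov H hH)) φ, fam_nat (snd (ov (uA A) hA) (ov H hH)) φ]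

theorem fam_actMap {Y : Over B} (k : Y ⟶ ov (uA A) hA ⊗ ov H hH) (t : Stk.EltObj Y.left.obj) :
    fam (k ≫ actMap hH a ha) t = a _ (fam (k ≫ fst _ _) t) (fam (k ≫ snd _ _) t) := by
  rw [fam_comp, fam_comp, fam_comp, actMap, fam_homOfFam]
  · exact ha _ _ _
  · intro t' t φ
    rw [ha]
    erw [fam_nat (fst (ov (uA A) hA) (ov H hH)) φ, fam_nat (snd (ov (uA A) hA) (ov H hH)) φ]

variable (h1 : ∀ u p, a u 1 p = p) (hm : ∀ u g g' p, a u (g * g') p = a u g (a u g' p))

/-- The action. -/
noncomputable def action : GAction (ov (uA A) hA) (ov H hH) where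
  act := actMap hH a ha
  one_act := hom_ext fun t => by
    rw [fam_actMap, whiskerRight_fst, whiskerRight_snd, leftUnitor_hom]
    rw [show fst (𝟙_ (Over B)) (ov H hH) ≫ η[ov (uA A) hA] = 1 by
      rw [Hom.one_def, toUnit_unique (fst (𝟙_ (Over B)) (ov H hH)) (toUnit _)], fam_one]
    exact h1 _ _
  mul_act := hom_ext fun t => by
    have e : fst (ov (uA A) hA ⊗ ov (uA A) hA) (ov H hH) ≫ μ[ov (uA A) hA] =
        (fst _ _ ≫ fst _ _) * (fst _ _ ≫ snd _ _) := by
      rw [Hom.mul_def, ← comp_lift, lift_fst_snd, Category.comp_id]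
    rw [fam_actMap, whiskerRight_fst, whiskerRight_snd, e, fam_mul, hm, ← Category.assoc, fam_actMap]
    simp only [Category.assoc, whiskerLeft_fst, whiskerLeft_snd, associator_hom_fst]
    rw [← Category.assoc (α_ _ _ _).hom, fam_actMap]
    simp only [Category.assoc, associator_hom_snd_fst, associator_hom_snd_snd]

end Action

end Ops

end Groth.Agent.Stk19b.Gerbe.Elts
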