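import Groth.Agent.Stk19b.Gerbe.EltsGrp
import Groth.Agent.Stk19b.Gerbe.Flat
import Groth.Agent.Stk19.AlgSt.AlgMisc

/-!
# The group algebraic space of automorphisms of a section
-/

set_option autoImplicit false
set_option backward.isDefEq.respectTransparency false
set_option backward.isDefEq.respectTransparency.types false

universe u

open CategoryTheory CategoryTheory.Limits AlgebraicGeometry Opposite FibCat Groth.Agent.Desc19

namespace Groth.Agent.Stk19b.Gerbe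

open Groth.Agent.Stk19 Elts

variable {S : Scheme.{u}} {𝒳 : AlgSt.Cat S} {B : AlgSp.Sp S}

/-- A vertical automorphism. -/
structure VAut (X : 𝒳.obj) where
  a : X ≅ X
  vert : 𝒳.p.map a.hom = 𝟙 _

theorem VAut.ext' {X : 𝒳.obj} {α β : VAut X} (h : α.a.hom = β.a.hom) : α = β := by
  obtain ⟨a, _⟩ := α
  obtain ⟨b, _⟩ := β
  obtain rfl : a = b := Iso.ext h
  rfl

instance (X : 𝒳.obj) : Group (VAut X) where
  mul α β := ⟨α.a ≪≫ β.a, by rw [Iso.trans_hom, Functor.map_comp, α.vert, β.vert, Category.comp_id]⟩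
  one := ⟨Iso.refl X, by simp⟩
  inv α := ⟨α.a.symm, by
    have h := (𝒳.p.mapIso α.a).hom_inv_id
    simpa [α.vert] using h⟩
  mul_assoc α β γ := VAut.ext' (Category.assoc _ _ _)
  one_mul α := VAut.ext' (Category.id_comp _)
  mul_one α := VAut.ext' (Category.comp_id _)
  inv_mul_cancel α := VAut.ext' α.a.inv_hom_id

theorem VAut.mul_hom {X : 𝒳.obj} (α β : VAut X) : (α * β).a.hom = α.a.hom ≫ β.a.hom := rfl

theorem VAut.one_hom (X : 𝒳.obj) : (1 : VAut X).a.hom = 𝟙 X := rfl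

section Tr

variable (h : IsFibGrpd 𝒳.p) (x : AlgSt.ofSp B ⥤ᵇ 𝒳)

include h in
theorem exists_tr {s t : Stk.EltObj B.obj} (φ : s ⟶ t) (α : VAut (x.obj t)) :
    ∃ β : VAut (x.obj s), β.a.hom ≫ x.map φ = x.map φ ≫ α.a.hom := by
  obtain ⟨b, ⟨hb, hb'⟩, -⟩ := fibGrpd_fac h (x.map φ) (x.map φ ≫ α.a.hom) (𝟙 _)
    (by rw [Functor.map_comp, α.vert, Category.id_comp, Category.comp_id])
  haveI : IsIso (𝒳.p.map b) := by rw [hb]; infer_instance
  haveI := fibGrpd_isIso h b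
  exact ⟨⟨asIso b, hb⟩, hb'⟩

include h in
theorem tr_unique {s t : Stk.EltObj B.obj} (φ : s ⟶ t) {β β' : VAut (x.obj s)} {α : VAut (x.obj t)}
    (h1 : β.a.hom ≫ x.map φ = x.map φ ≫ α.a.hom) (h2 : β'.a.hom ≫ x.map φ = x.map φ ≫ α.a.hom) : β = β' :=
  VAut.ext' (fibGrpd_ext h (x.map φ) (β.vert.trans β'.vert.symm) (h1.trans h2.symm))

/-- Restriction of automorphisms. -/
noncomputable def tr {s t : Stk.EltObj B.obj} (φ : s ⟶ t) : VAut (x.obj t) →* VAut (x.obj s) where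
  toFun α := (exists_tr h x φ α).choose
  map_one' := tr_unique h x φ (exists_tr h x φ 1).choose_spec (by simp [VAut.one_hom])
  map_mul' α β := tr_unique h x φ (exists_tr h x φ _).choose_spec (by
    rw [VAut.mul_hom, VAut.mul_hom, Category.assoc, (exists_tr h x φ β).choose_spec, ← Category.assoc,
      (exists_tr h x φ α).choose_spec, Category.assoc])

theorem tr_spec {s t : Stk.EltObj B.obj} (φ : s ⟶ t) (α : VAut (x.obj t)) :
    (tr h x φ α).a.hom ≫ x.map φ = x.map φ ≫ α.a.hom :=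
  (exists_tr h x φ α).choose_spec

theorem tr_eq {s t : Stk.EltObj B.obj} (φ : s ⟶ t) {β : VAut (x.obj s)} {α : VAut (x.obj t)}
    (hβ : β.a.hom ≫ x.map φ = x.map φ ≫ α.a.hom) : tr h x φ α = β :=
  tr_unique h x φ (tr_spec h x φ α) hβ

/-- The automorphism groups of the values of a point of a stack. -/
noncomputable def autGrp : (Stk.EltObj B.obj)ᵒᵖ ⥤ GrpCat.{u} where
  obj t := GrpCat.of (VAut (x.obj t.unop))
  map φ := GrpCat.ofHom (tr h x φ.unop)
  map_id t := ConcreteCategory.hom_ext _ _ fun α => tr_eq h x (𝟙 t.unop) (by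
    simp only [CategoryTheory.Functor.map_id, Category.comp_id, Category.id_comp]
    rfl)
  map_comp φ ψ := ConcreteCategory.hom_ext _ _ fun α => tr_eq h x _ (by
    show (tr h x ψ.unop (tr h x φ.unop α)).a.hom ≫ x.map (ψ.unop ≫ φ.unop) = x.map (ψ.unop ≫ φ.unop) ≫ α.a.hom
    rw [x.toFunctor.map_comp, ← Category.assoc, tr_spec, Category.assoc, tr_spec, Category.assoc])

end Tr

section Sec

variable {π : 𝒳 ⥤ᵇ AlgSt.ofSp B} {x : AlgSt.ofSp B ⥤ᵇ 𝒳}
  (ex : BasedFunctor.comp x π ≅ BasedFunctor.id (AlgSt.ofSp B))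

include ex in
/-- The section of the value of a point. -/
theorem secOf_section (t : Stk.EltObj B.obj) :
    secOf π (x.obj t) = B.obj.map (eqToHom (x.w_obj t)).op t.sec := by
  have h := secOf_eq_of_hom ex.hom t
  have e : secOf (BasedFunctor.id (AlgSt.ofSp B)) t = t.sec := by
    show B.obj.map (eqToHom rfl).op t.sec = t.sec
    rw [eqToHom_refl, op_id, Functor.map_id_apply]
  rw [e] at h
  rw [← h]
  simp only [secOf]
  rw [← Functor.map_comp_apply, ← op_comp, eqToHom_trans]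
  rfl

include ex in
/-- Vertical arrows between values of a point come from equal elements. -/
theorem sec_eq_of_vert {s t : Stk.EltObj B.obj} (θ : x.obj s ⟶ x.obj t) (e : s.base = t.base)
    (hθ : 𝒳.p.map θ = eqToHom ((x.w_obj s).trans (e.trans (x.w_obj t).symm))) :
    B.obj.map (eqToHom e).op t.sec = s.sec := by
  have h := secOf_compat π θ
  rw [secOf_section ex, secOf_section ex, hθ] at h
  have h' := congrArg (B.obj.map (eqToHom (x.w_obj s).symm).op) h
  simp only [← Functor.map_comp_apply, ← op_comp, eqToHom_trans] at h'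
  rw [eqToHom_refl, op_id, Functor.map_id_apply] at h'
  exact h'

variable (h : IsFibGrpd 𝒳.p) (x)

theorem autFun_w {p q : (Stk.ofPsh (totPsh (uA (autGrp h x)))).obj} (f : p ⟶ q) :
    let φ : el p.sec.1 ⟶ el q.sec.1 := ⟨f.hom, congrArg Sigma.fst f.map_sec⟩
    x.map φ ≫ q.sec.2.a.hom = p.sec.2.a.hom ≫ x.map φ := by
  intro φ
  have e : tr h x φ q.sec.2 = p.sec.2 := Elts.map_eq f.map_sec φ rfl
  rw [← e, tr_spec]

/-- The comparison with the self fibre product. -/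
noncomputable def autFun : Stk.ofPsh (totPsh (uA (autGrp h x))) ⥤ᵇ fp x x where
  toFunctor :=
    { obj := fun p => fpMk (el p.sec.1) (el p.sec.1) p.sec.2.a
        (lift_mk _ (x.w_obj _) (x.w_obj _) (by rw [p.sec.2.vert]; simp))
      map := fun {p q} f => fpHom ⟨f.hom, congrArg Sigma.fst f.map_sec⟩ ⟨f.hom, congrArg Sigma.fst f.map_sec⟩
        (autFun_w x h f)
      map_id := fun p => fp_hom_ext (el_hom_ext rfl) (el_hom_ext rfl)
      map_comp := fun f g => fp_hom_ext (el_hom_ext rfl) (el_hom_ext rfl) }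
  w := rfl

include ex in
theorem isEquivOver_autFun : IsEquivOver (autFun x h) := by
  refine EqvData.isEquivOver ⟨⟨fun {p q} K => ?_⟩, ⟨fun {p q} f g hfg => ?_⟩, fun o => ?_⟩
  · have hsnd : K.hom.snd = K.hom.fst := el_hom_ext ((fp_map_snd K).trans (by
      show eqToHom _ ≫ K.hom.fst.hom ≫ eqToHom _ = K.hom.fst.hom
      simp))
    have hw : x.map K.hom.fst ≫ q.sec.2.a.hom = p.sec.2.a.hom ≫ x.map K.hom.fst :=
      K.hom.w.trans (congrArg (fun t => p.sec.2.a.hom ≫ x.map t) hsnd)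
    refine ⟨⟨K.hom.fst.hom, Elts.map_mk K.hom.fst rfl (tr_eq h x _ hw.symm)⟩,
      fp_hom_ext (el_hom_ext rfl) (el_hom_ext ?_)⟩
    rw [hsnd]
    rfl
  · exact Stk.EltObj.hom_ext (congrArg (fun k => k.hom.fst.hom) hfg :)
  · have eb : o.obj.fst.base = o.obj.snd.base := (fp_base_eq o).symm
    have hs := sec_eq_of_vert ex o.obj.iso.hom eb (fp_iso_map o)
    let j : o.obj.fst ≅ o.obj.snd :=
      { hom := ⟨eqToHom eb, hs⟩
        inv := ⟨eqToHom eb.symm, by rw [← hs, ← Functor.map_comp_apply, ← op_comp]; simp⟩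
        hom_inv_id := el_hom_ext (by simp)
        inv_hom_id := el_hom_ext (by simp) }
    let α : VAut (x.obj o.obj.fst) := ⟨o.obj.iso ≪≫ (x.toFunctor.mapIso j).symm, by
      rw [Iso.trans_hom, Functor.map_comp, fp_iso_map o, Iso.symm_hom, Functor.mapIso_inv]
      erw [based_map x j.inv]
      show _ ≫ _ ≫ eqToHom eb.symm ≫ _ = _
      simp⟩
    refine ⟨⟨o.obj.fst.base, ⟨o.obj.fst.sec, α⟩⟩, fpIsoMk (Iso.refl _) j ?_, fpIsoMk_vert _ _ _ ?_⟩
    · show x.map (𝟙 _) ≫ o.obj.iso.hom = α.a.hom ≫ x.map j.hom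
      simp [α]
    · exact (vert_iff _ _).2 ⟨rfl, rfl, rfl⟩

end Sec

/-- The automorphisms of a section form a group algebraic space, flat and locally of finite presentation. -/
theorem autGrp_props (h𝒳 : AlgSt.IsAlgStack Scheme.fppfPrecoverage 𝒳) (U : AlgSp.Space S)
    {π : 𝒳 ⥤ᵇ AlgSt.ofSp U.obj} (hπ : Gerb.IsGerbeOver (AlgSp.J S) π) (x : AlgSt.ofSp U.obj ⥤ᵇ 𝒳)
    (ex : BasedFunctor.comp x π ≅ BasedFunctor.id (AlgSt.ofSp U.obj)) :
    ∃ hA : Presheaf.IsSheaf (AlgSp.J S) (totPsh (uA (autGrp h𝒳.isStack.1 x))),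
      AlgSp.IsAlgSpace (ov (uA (autGrp h𝒳.isStack.1 x)) hA).left ∧
      AlgSp.LocP @Flat (ov (uA (autGrp h𝒳.isStack.1 x)) hA).hom ∧
      AlgSp.LocP @LocallyOfFinitePresentation (ov (uA (autGrp h𝒳.isStack.1 x)) hA).hom := by
  have hU : AlgSt.IsAlgStack Scheme.fppfPrecoverage (AlgSt.ofSp U.obj) := (isDM_ofSp U).1
  have hN := isAlgStack_fp h𝒳.isStack h𝒳.diag hU hU x x
  have hE := isEquivOver_autFun x ex h𝒳.isStack.1
  obtain ⟨-, h₁, h₂⟩ := gerbe_section h𝒳 hU hπ ex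
  have hr := rep1_of_section h𝒳 hU ex
  have w₁ := with_of_locQ smST_flat (pbStable_locP AlgSpLib.etLocal_flat) (schDescent_locP AlgSpLib.etLocal_flat)
    hU h𝒳 hr h₁
  have w₂ := with_of_locQ smST_lfp (pbStable_locP AlgSpLib.etLocal_lfp) (schDescent_locP AlgSpLib.etLocal_lfp)
    hU h𝒳 hr h₂
  obtain ⟨F, eF, heF⟩ := repByAlgSp_fp_of_rep1 x x hU.isStack.1 h𝒳.isStack.1 (repByAlgSp_ofSp U) hr
  have hA : Presheaf.IsSheaf (AlgSp.J S) (totPsh (uA (autGrp h𝒳.isStack.1 x))) :=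
    (isSheaf_iff_isSheaf_of_type _ _).2 ((isStack_ofPsh_iff _).1 ((isStack_iff_of_equiv _ hE).2 hN.isStack))
  have hG : AlgSp.IsAlgSpace (ov (uA (autGrp h𝒳.isStack.1 x)) hA).left :=
    (AlgSp.isAlgSpaceP_obj_iff _).1 ((repByAlgSp_ofPsh_iff _).1 (repByAlgSp_of_equiv' hE ⟨F, eF, heF⟩))
  have e : BasedFunctor.comp (autFun x h𝒳.isStack.1) (fpFst x x) =
      AlgSt.ofSpMap (ov (uA (autGrp h𝒳.isStack.1 x)) hA).hom := rfl
  refine ⟨hA, hG,
    prop_of_repByAlgSpWith_ofSpMap (pbStable_locP AlgSpLib.etLocal_flat) (schemeTested_locP AlgSpLib.etLocal_flat)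
      (V := ⟨_, hG⟩) (Z := U) _ (e ▸ with_equiv_comp hE (repByAlgSpWith_fpFst x w₁)),
    prop_of_repByAlgSpWith_ofSpMap (pbStable_locP AlgSpLib.etLocal_lfp) (schemeTested_locP AlgSpLib.etLocal_lfp)
      (V := ⟨_, hG⟩) (Z := U) _ (e ▸ with_equiv_comp hE (repByAlgSpWith_fpFst x w₂))⟩

end Groth.Agent.Stk19b.Gerbe
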